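import Groth.Agent.EtaleDeep.AR.Images
import Mathlib.CategoryTheory.Limits.Shapes.BinaryBiproducts

/-!
# `J`-adic systems: test-morphism criteria
-/

universe w v u

open CategoryTheory CategoryTheory.Limits Opposite

namespace Groth.EtaleDeep.AR

variable {C : Type u} [Category.{v} C] [Abelian C] {A : Type w} [CommRing A] [Linear A C]

/-- `s` lands in `I X`: it is killed by every morphism killed by `I`. -/
def InI (I : Ideal A) {T X : C} (s : T ⟶ X) : Prop :=
  ∀ ⦃W : C⦄ (φ : X ⟶ W), ARSys.HomKilledBy I φ → s ≫ φ = 0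

lemma subLEIdeal_iff (I : Ideal A) {X : C} (S : Subobject X) :
    ARSys.SubLEIdeal I S ↔ InI I S.arrow := Iff.rfl

variable {I I' : Ideal A} {T T' X X' W : C}

lemma homKilledBy_comp (φ : X ⟶ W) (g : W ⟶ X') (h : ARSys.HomKilledBy I φ) :
    ARSys.HomKilledBy I (φ ≫ g) := fun a ha => by rw [← Linear.smul_comp, h a ha, zero_comp]

lemma homKilledBy_pre (g : X' ⟶ X) (φ : X ⟶ W) (h : ARSys.HomKilledBy I φ) :
    ARSys.HomKilledBy I (g ≫ φ) := fun a ha => by rw [← Linear.comp_smul, h a ha, comp_zero]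

lemma homKilledBy_of_killedBy_target (φ : X ⟶ W) (h : ARSys.KilledBy I W) :
    ARSys.HomKilledBy I φ := fun a ha => by
  rw [← Category.comp_id φ, ← Linear.comp_smul, h a ha, comp_zero]

lemma homKilledBy_of_killedBy_source (φ : X ⟶ W) (h : ARSys.KilledBy I X) :
    ARSys.HomKilledBy I φ := fun a ha => by
  rw [← Category.id_comp φ, ← Linear.smul_comp, h a ha, zero_comp]

lemma homKilledBy_of_epi (p : X' ⟶ X) [Epi p] (φ : X ⟶ W) (h : ARSys.HomKilledBy I (p ≫ φ)) :
    ARSys.HomKilledBy I φ := fun a ha =>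
  (cancel_epi p).1 (by rw [Linear.comp_smul, h a ha, comp_zero])

lemma homKilledBy_of_mono (g : W ⟶ X') [Mono g] (φ : X ⟶ W) (h : ARSys.HomKilledBy I (φ ≫ g)) :
    ARSys.HomKilledBy I φ := fun a ha =>
  (cancel_mono g).1 (by rw [Linear.smul_comp, h a ha, zero_comp])

lemma homKilledBy_anti (h : I ≤ I') {φ : X ⟶ W} (hφ : ARSys.HomKilledBy I' φ) :
    ARSys.HomKilledBy I φ := fun a ha => hφ a (h ha)

lemma killedBy_of_mono (f : X ⟶ X') [Mono f] (h : ARSys.KilledBy I X') : ARSys.KilledBy I X :=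
  homKilledBy_of_mono f (𝟙 X) (by simpa using homKilledBy_of_killedBy_target f h)

lemma killedBy_of_epi (f : X ⟶ X') [Epi f] (h : ARSys.KilledBy I X) : ARSys.KilledBy I X' :=
  homKilledBy_of_epi f (𝟙 X') (by simpa using homKilledBy_of_killedBy_source f h)

lemma killedBy_anti (h : I ≤ I') (hX : ARSys.KilledBy I' X) : ARSys.KilledBy I X :=
  fun a ha => hX a (h ha)

lemma InI.mono_ideal (h : I ≤ I') {s : T ⟶ X} (hs : InI I s) : InI I' s :=
  fun _ φ hφ => hs φ (homKilledBy_anti h hφ)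

lemma InI.comp {s : T ⟶ X} (hs : InI I s) (f : X ⟶ X') : InI I (s ≫ f) := fun _ φ hφ => by
  rw [Category.assoc]; exact hs _ (homKilledBy_pre f φ hφ)

lemma InI.pre {s : T ⟶ X} (hs : InI I s) (t : T' ⟶ T) : InI I (t ≫ s) := fun _ φ hφ => by
  rw [Category.assoc, hs φ hφ, comp_zero]

lemma inI_of_epi (π : T' ⟶ T) [Epi π] {s : T ⟶ X} (hs : InI I (π ≫ s)) : InI I s :=
  fun _ φ hφ => (cancel_epi π).1 (by rw [← Category.assoc, hs φ hφ, comp_zero])

lemma InI.eq_zero {s : T ⟶ X} (hs : InI I s) (hX : ARSys.KilledBy I X) : s = 0 := by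
  simpa using hs (𝟙 X) hX

lemma inI_top (s : T ⟶ X) : InI (⊤ : Ideal A) s := fun _ φ hφ => by
  have h : (1 : A) • φ = 0 := hφ 1 Submodule.mem_top
  rw [one_smul] at h
  rw [h, comp_zero]

/-- Multiplying an element of `I' X` by `a ∈ I` gives an element of `(I * I') X`. -/
lemma InI.smul {s : T ⟶ X} (hs : InI I' s) {a : A} (ha : a ∈ I) : InI (I * I') (a • s) :=
  fun _ φ hφ => by
    rw [Linear.smul_comp, ← Linear.comp_smul]
    exact hs _ fun b hb => by rw [smul_smul, hφ (b * a) (mul_comm b a ▸ Ideal.mul_mem_mul ha hb)]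

lemma isQuot_iff {Q : C} (p : X ⟶ Q) :
    ARSys.IsQuot I p ↔ ARSys.KilledBy I Q ∧ Epi p ∧
      ∀ ⦃T : C⦄ (k : T ⟶ X), k ≫ p = 0 → InI I k := by
  constructor
  · rintro ⟨hQ, hu⟩
    have hp : ARSys.HomKilledBy I p := homKilledBy_of_killedBy_target p hQ
    refine ⟨hQ, ⟨fun {Z} g g' h => ?_⟩, fun T k hk W φ hφ => ?_⟩
    · obtain ⟨ψ, -, huniq⟩ := hu _ (p ≫ g) (homKilledBy_comp p g hp)
      rw [huniq g rfl, huniq g' h.symm]
    · obtain ⟨ψ, hψ, -⟩ := hu _ φ hφ
      rw [← hψ, ← Category.assoc, hk, zero_comp]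
  · rintro ⟨hQ, hp, hk⟩
    refine ⟨hQ, fun Y φ hφ => ?_⟩
    exact ⟨Abelian.epiDesc p φ (hk _ (kernel.condition p) φ hφ), Abelian.comp_epiDesc _ _ _,
      fun ψ hψ => (cancel_epi p).1 (by rw [hψ, Abelian.comp_epiDesc])⟩

lemma IsQuot.epi {Q : C} {p : X ⟶ Q} (h : ARSys.IsQuot I p) : Epi p := ((isQuot_iff p).1 h).2.1

lemma IsQuot.inI {Q : C} {p : X ⟶ Q} (h : ARSys.IsQuot I p) {k : T ⟶ X} (hk : k ≫ p = 0) :
    InI I k :=
  ((isQuot_iff p).1 h).2.2 k hk

variable {J : Ideal A} {P : ARSys.PS C}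

lemma pow_le_pow {p q : ℕ} (h : p ≤ q) : J ^ q ≤ J ^ p := Ideal.pow_le_pow_right h

lemma isStrict_of_isAdic (h : ARSys.IsAdic J P) : ARSys.IsStrict P :=
  fun n m hnm => IsQuot.epi (h.2 n m hnm)

lemma epi_tr_of_succ (h : ∀ n, Epi (ARSys.tr P (Nat.le_succ n))) : ARSys.IsStrict P := by
  intro n m hnm
  induction m, hnm using Nat.le_induction with
  | base => rw [tr_self]; infer_instance
  | succ m hm ih =>
    rw [← tr_comp P hm (Nat.le_succ m)]
    have := h m
    exact epi_comp _ _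

/-- It suffices to check the adic condition between successive degrees. -/
lemma isAdic_of_succ (hk : ARSys.TermKilled J P)
    (h : ∀ n, ARSys.IsQuot (J ^ (n + 1)) (ARSys.tr P (Nat.le_succ n))) : ARSys.IsAdic J P := by
  refine ⟨hk, fun n m hnm => ?_⟩
  induction m, hnm using Nat.le_induction with
  | base =>
    rw [tr_self]
    exact (isQuot_iff _).2 ⟨hk n, inferInstance, fun T k hk' => by
      rw [Category.comp_id] at hk'; subst hk'; exact fun _ φ _ => zero_comp⟩
  | succ m hm ih =>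
    rw [← tr_comp P hm (Nat.le_succ m)]
    refine ⟨hk n, fun Y φ hφ => ?_⟩
    obtain ⟨ψ, hψ, hu⟩ := (h m).2 Y φ (homKilledBy_anti (pow_le_pow (by omega)) hφ)
    have hψ' : ARSys.HomKilledBy (J ^ (n + 1)) ψ := by
      have := IsQuot.epi (h m)
      exact homKilledBy_of_epi (ARSys.tr P (Nat.le_succ m)) ψ (by rwa [hψ])
    obtain ⟨χ, hχ, hu'⟩ := ih.2 Y ψ hψ'
    refine ⟨χ, by simp [Category.assoc, hχ, hψ], fun χ' hχ' => hu' χ' (hu _ ?_)⟩
    simpa [Category.assoc] using hχ'

/-- Morphisms out of a translate of an adic system into a killed system factor uniquely. -/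
lemma existsUnique_factor {Y : ARSys.PS C} (hP : ARSys.IsAdic J P) (hY : ARSys.TermKilled J Y)
    (r : ℕ) (f : (ARSys.shift C r).obj P ⟶ Y) : ∃! g : P ⟶ Y, f = tau P r ≫ g := by
  have hu : ∀ n : ℕ, ∃! g : P.obj (op n) ⟶ Y.obj (op n),
      ARSys.tr P (Nat.le_add_right n r) ≫ g = f.app (op n) := fun n =>
    (hP.2 n (n + r) (Nat.le_add_right n r)).2 _ (f.app (op n))
      (homKilledBy_of_killedBy_target _ (hY n))
  choose g hg hguniq using hu
  let G : P ⟶ Y :=
    { app := fun o => g o.unop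
      naturality := fun a b e => by
        obtain ⟨n⟩ := a; obtain ⟨m⟩ := b
        have hmn : m ≤ n := leOfHom e.unop
        rw [show e = (homOfLE hmn).op from Subsingleton.elim _ _]
        show ARSys.tr P hmn ≫ g m = g n ≫ ARSys.tr Y hmn
        have := isStrict_of_isAdic hP n (n + r) (Nat.le_add_right n r)
        rw [← cancel_epi (ARSys.tr P (Nat.le_add_right n r)), ← Category.assoc (ARSys.tr P _) (g n),
          hg, ← Category.assoc, tr_comp,
          ← tr_comp P (Nat.le_add_right m r) (Nat.add_le_add_right hmn r), Category.assoc, hg]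
        have := tr_naturality f hmn
        rwa [tr_shift] at this }
  refine ⟨G, ?_, fun G' hG' => ?_⟩
  · ext ⟨n⟩
    exact (hg n).symm
  · ext ⟨n⟩
    exact hguniq n _ (congrArg (fun t => NatTrans.app t (op n)) hG').symm

/-- A short exact sequence of systems, termwise. -/
lemma shortExact_app {S : ShortComplex (ARSys.PS C)} (hS : S.ShortExact) (n : ℕ) :
    Mono (S.f.app (op n)) ∧ Epi (S.g.app (op n)) ∧
      (S.map ((evaluation ℕᵒᵖ C).obj (op n))).Exact := by
  have := hS.mono_f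
  have := hS.epi_g
  exact ⟨mono_app _ _, epi_app _ _, hS.exact.map _⟩

/-- The quotient of an adic system by a strict subsystem is adic. -/
lemma isAdic_X₃ {S : ShortComplex (ARSys.PS C)} (hS : S.ShortExact) (h₁ : ARSys.IsStrict S.X₁)
    (h₂ : ARSys.IsAdic J S.X₂) : ARSys.IsAdic J S.X₃ := by
  refine isAdic_of_succ (fun n => ?_) fun n => (isQuot_iff _).2 ⟨?_, ?_, ?_⟩
  · have := (shortExact_app hS n).2.1
    exact killedBy_of_epi (S.g.app (op n)) (h₂.1 n)
  · have := (shortExact_app hS n).2.1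
    exact killedBy_of_epi (S.g.app (op n)) (h₂.1 n)
  · have := (shortExact_app hS n).2.1
    have := isStrict_of_isAdic h₂ n (n + 1) (Nat.le_succ n)
    have : Epi (S.g.app (op (n + 1)) ≫ ARSys.tr S.X₃ (Nat.le_succ n)) := by
      rw [← tr_naturality]; infer_instance
    exact epi_of_epi (S.g.app (op (n + 1))) _
  · intro T k hk
    -- a lift of `k` differs from a kernel element by an element of the subsystem
    have := (shortExact_app hS (n + 1)).2.1
    obtain ⟨T', π, _, x, hx⟩ := surjective_up_to_refinements_of_epi (S.g.app (op (n + 1))) k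
    have h0 : (x ≫ ARSys.tr S.X₂ (Nat.le_succ n)) ≫ S.g.app (op n) = 0 := by
      rw [Category.assoc, tr_naturality, ← Category.assoc, ← hx, Category.assoc, hk, comp_zero]
    obtain ⟨T'', π', _, y, hy⟩ : ∃ (T'' : C) (π' : T'' ⟶ T') (_ : Epi π')
        (y : T'' ⟶ S.X₁.obj (op n)),
        π' ≫ x ≫ ARSys.tr S.X₂ (Nat.le_succ n) = y ≫ S.f.app (op n) :=
      (shortExact_app hS n).2.2.exact_up_to_refinements (x ≫ ARSys.tr S.X₂ (Nat.le_succ n)) h0
    have := h₁ n (n + 1) (Nat.le_succ n)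
    obtain ⟨T₃, π'', _, y', hy'⟩ :=
      surjective_up_to_refinements_of_epi (ARSys.tr S.X₁ (Nat.le_succ n)) y
    have hd : (π'' ≫ π' ≫ x - y' ≫ S.f.app (op (n + 1))) ≫ ARSys.tr S.X₂ (Nat.le_succ n) = 0 := by
      rw [Preadditive.sub_comp, Category.assoc, Category.assoc, hy, Category.assoc, ← tr_naturality,
        ← Category.assoc y', ← hy']
      simp
    have hw : S.f.app (op (n + 1)) ≫ S.g.app (op (n + 1)) = 0 := by
      rw [← NatTrans.comp_app, S.zero]; rfl
    refine inI_of_epi π (inI_of_epi π' (inI_of_epi π'' ?_))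
    have e := (IsQuot.inI (h₂.2 n (n + 1) (Nat.le_succ n)) hd).comp (S.g.app (op (n + 1)))
    simp only [Preadditive.sub_comp, Category.assoc, hw, comp_zero, sub_zero, ← hx] at e
    exact e

/-- A strict killed system mapping onto an adic system has strict kernel. -/
lemma isStrict_X₁ {S : ShortComplex (ARSys.PS C)} (hS : S.ShortExact)
    (k₂ : ARSys.TermKilled J S.X₂) (h₂ : ARSys.IsStrict S.X₂) (h₃ : ARSys.IsAdic J S.X₃) :
    ARSys.IsStrict S.X₁ := by
  intro n m hnm
  refine Preadditive.epi_of_cancel_zero _ fun {W} h hh => ?_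
  obtain ⟨hmn, hen, -⟩ := shortExact_app hS n
  obtain ⟨hmm, hem, hxm⟩ := shortExact_app hS m
  have := h₂ n m hnm
  have := isStrict_of_isAdic h₃ n m hnm
  let φ := ARSys.tr S.X₂ hnm ≫ pushout.inl (S.f.app (op n)) h
  have hφ : ARSys.HomKilledBy (J ^ (n + 1)) φ :=
    homKilledBy_pre _ _ (homKilledBy_of_killedBy_source _ (k₂ n))
  have h0 : S.f.app (op m) ≫ φ = 0 := by
    simp only [φ]
    rw [← Category.assoc, ← tr_naturality, Category.assoc, pushout.condition, ← Category.assoc, hh,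
      zero_comp]
  have : Epi (S.map ((evaluation ℕᵒᵖ C).obj (op m))).g := hem
  obtain ⟨ψ, hψ⟩ : ∃ ψ, S.g.app (op m) ≫ ψ = φ := ⟨_, hxm.g_desc φ h0⟩
  obtain ⟨χ, hχ, -⟩ := (h₃.2 n m hnm).2 _ ψ (homKilledBy_of_epi _ ψ (by rw [hψ]; exact hφ))
  have hinl : pushout.inl (S.f.app (op n)) h = S.g.app (op n) ≫ χ := by
    rw [← cancel_epi (ARSys.tr S.X₂ hnm), ← Category.assoc, tr_naturality, Category.assoc, hχ, hψ]
  have hw : S.f.app (op n) ≫ S.g.app (op n) = 0 := by
    rw [← NatTrans.comp_app, S.zero]; rfl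
  have e : h ≫ pushout.inr (S.f.app (op n)) h = 0 := by
    rw [← pushout.condition, hinl, ← Category.assoc, hw, zero_comp]
  exact (cancel_mono (pushout.inr (S.f.app (op n)) h)).1 (by rw [e, zero_comp])

/-- An extension of adic systems killed by the powers of `J` is adic. -/
lemma isAdic_X₂ {S : ShortComplex (ARSys.PS C)} (hS : S.ShortExact)
    (k₂ : ARSys.TermKilled J S.X₂) (h₁ : ARSys.IsAdic J S.X₁) (h₃ : ARSys.IsAdic J S.X₃) :
    ARSys.IsAdic J S.X₂ := by
  refine isAdic_of_succ k₂ fun n => ?_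
  obtain ⟨hmn, hen, hxn⟩ := shortExact_app hS n
  obtain ⟨hmm, hem, hxm⟩ := shortExact_app hS (n + 1)
  have hnm := Nat.le_succ n
  have := isStrict_of_isAdic h₃ n (n + 1) hnm
  have := isStrict_of_isAdic h₁ n (n + 1) hnm
  refine (isQuot_iff _).2 ⟨k₂ n, ?_, fun T k hk W φ hφ => ?_⟩
  · refine Preadditive.epi_of_cancel_zero _ fun {W} h hh => ?_
    have e : S.f.app (op n) ≫ h = 0 := by
      rw [← cancel_epi (ARSys.tr S.X₁ hnm), comp_zero, ← Category.assoc, tr_naturality,
        Category.assoc, hh, comp_zero]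
    have : Epi (S.map ((evaluation ℕᵒᵖ C).obj (op n))).g := hen
    obtain ⟨h', rfl⟩ : ∃ h', S.g.app (op n) ≫ h' = h := ⟨_, hxn.g_desc h e⟩
    rw [← Category.assoc, tr_naturality, Category.assoc] at hh
    have : h' = 0 := (cancel_epi (ARSys.tr S.X₃ hnm)).1
      ((cancel_epi (S.g.app (op (n + 1)))).1 (by simpa using hh))
    rw [this, comp_zero]
  · let φ' := biprod.lift φ (ARSys.tr S.X₂ hnm)
    have hφ' : ARSys.HomKilledBy (J ^ (n + 1)) φ' := fun a ha => by
      ext
      · simp [φ', Linear.smul_comp, hφ a ha]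
      · simp [φ', Linear.smul_comp,
          (homKilledBy_of_killedBy_target (ARSys.tr S.X₂ hnm) (k₂ n)) a ha]
    obtain ⟨α, hα, -⟩ := (h₁.2 n (n + 1) hnm).2 _ (S.f.app (op (n + 1)) ≫ φ)
      (homKilledBy_pre _ _ hφ)
    let m := biprod.lift α (S.f.app (op n))
    have hm : S.f.app (op (n + 1)) ≫ φ' = ARSys.tr S.X₁ hnm ≫ m := by
      ext
      · simp [φ', m, hα]
      · simp [φ', m]
    have e : S.f.app (op (n + 1)) ≫ φ' ≫ cokernel.π m = 0 := by
      rw [← Category.assoc, hm, Category.assoc, cokernel.condition, comp_zero]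
    have : Epi (S.map ((evaluation ℕᵒᵖ C).obj (op (n + 1)))).g := hem
    obtain ⟨ψ, hψ⟩ : ∃ ψ, S.g.app (op (n + 1)) ≫ ψ = φ' ≫ cokernel.π m := ⟨_, hxm.g_desc _ e⟩
    have hg : InI (J ^ (n + 1)) (k ≫ S.g.app (op (n + 1))) :=
      IsQuot.inI (h₃.2 n (n + 1) hnm)
        (by rw [Category.assoc, ← tr_naturality, ← Category.assoc, hk, zero_comp])
    have e₂ : (k ≫ φ') ≫ cokernel.π m = 0 := by
      rw [Category.assoc, ← hψ, ← Category.assoc]
      exact hg ψ (homKilledBy_of_epi _ ψ (by rw [hψ]; exact homKilledBy_comp _ _ hφ'))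
    have : Mono m := mono_of_mono_fac (biprod.lift_snd α (S.f.app (op n)))
    obtain ⟨y, hy⟩ : ∃ y, y ≫ m = k ≫ φ' := ⟨_, Abelian.monoLift_comp m _ e₂⟩
    have hy₁ := congrArg (· ≫ biprod.snd) hy
    simp only [m, φ', Category.assoc, biprod.lift_snd, hk] at hy₁
    have : y = 0 := (cancel_mono (S.f.app (op n))).1 (by rw [hy₁, zero_comp])
    have hy₂ := congrArg (· ≫ biprod.fst) hy
    simp only [m, φ', Category.assoc, biprod.lift_fst, this, zero_comp] at hy₂
    exact hy₂.symm

/-- Filtration membership: `x` lies in `F^q (X_n)`. -/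
def InF (X : ARSys.PS C) (q n : ℕ) {T : C} (x : T ⟶ X.obj (op n)) : Prop :=
  ∀ (k : ℕ) (h : k ≤ n), k < q → x ≫ ARSys.tr X h = 0

omit [Linear A C] in
lemma fsub_factors_iff (X : ARSys.PS C) (q n : ℕ) {T : C} (x : T ⟶ X.obj (op n)) :
    (ARSys.Fsub X q n).Factors x ↔ InF X q n x := by
  rcases q with _ | q
  · exact ⟨fun _ k h hk => absurd hk (by omega), fun _ => Subobject.top_factors x⟩
  · show (if h : q ≤ n then kernelSubobject (ARSys.tr X h) else ⊥).Factors x ↔ _
    by_cases h : q ≤ n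
    · rw [dif_pos h, kernelSubobject_factors_iff]
      refine ⟨fun hx k hk hkq => ?_, fun hx => hx q h (Nat.lt_succ_self q)⟩
      rw [← tr_comp X (show k ≤ q by omega) h, ← Category.assoc, hx, zero_comp]
    · rw [dif_neg h, Subobject.bot_factors_iff_zero]
      refine ⟨fun hx k hk _ => by rw [hx, zero_comp], fun hx => ?_⟩
      simpa using hx n le_rfl (by omega)

lemma isAdapted_iff (X : ARSys.PS C) : ARSys.IsAdapted J X ↔ ∀ (n p q : ℕ), n + 1 ≤ p + q →
    ∀ a ∈ J ^ p, ∀ ⦃T : C⦄ (x : T ⟶ X.obj (op n)), InF X q n x → a • x = 0 := by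
  constructor
  · intro h n p q hpq a ha T x hx
    have ha' : a ∈ J ^ min p (n + 1) := pow_le_pow (min_le_left _ _) ha
    have hx' : (ARSys.Fsub X (n + 1 - min p (n + 1)) n).Factors x :=
      (fsub_factors_iff X _ n x).2 fun k hk hkq => hx k hk (by omega)
    have := congrArg (Subobject.factorThru _ x hx' ≫ ·) (h n _ (min_le_right _ _) a ha')
    simpa [Linear.comp_smul] using this
  · intro h n p hp a ha
    simpa [Linear.comp_smul] using h n p (n + 1 - p) (by omega) a ha _
      ((fsub_factors_iff X _ n _).1 (Subobject.factors_self _))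

lemma inI_of_inF {X : ARSys.PS C} (hX : ARSys.IsAdic J X) {q n : ℕ} {T : C}
    {x : T ⟶ X.obj (op n)} (hx : InF X q n x) : InI (J ^ q) x := by
  rcases q with _ | q
  · rw [pow_zero, Ideal.one_eq_top]; exact inI_top x
  · by_cases h : q ≤ n
    · exact IsQuot.inI (hX.2 q n h) (hx q h (Nat.lt_succ_self q))
    · have : x = 0 := by simpa using hx n le_rfl (by omega)
      subst this
      exact fun _ φ _ => zero_comp

/-- An adic system is adapted. -/
lemma isAdapted_of_isAdic {X : ARSys.PS C} (hX : ARSys.IsAdic J X) : ARSys.IsAdapted J X :=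
  (isAdapted_iff X).2 fun n p q hpq a ha T x hx =>
    ((inI_of_inF hX hx).smul ha).eq_zero
      (killedBy_anti (by rw [← pow_add]; exact pow_le_pow hpq) (hX.1 n))

omit [Linear A C] in
lemma fker_factors_iff (X : ARSys.PS C) (n : ℕ) {T : C} (x : T ⟶ X.obj (op n)) :
    (ARSys.Fker X n).Factors x ↔ InF X n n x := by
  rcases n with _ | n
  · exact ⟨fun _ k _ hk => absurd hk (by omega), fun _ => Subobject.top_factors x⟩
  · rw [← fsub_factors_iff]
    simp [ARSys.Fker, ARSys.Fsub]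

lemma subLEIdeal_fker_iff (I : Ideal A) (X : ARSys.PS C) (n : ℕ) :
    ARSys.SubLEIdeal I (ARSys.Fker X n) ↔
      ∀ ⦃T : C⦄ (x : T ⟶ X.obj (op n)), InF X n n x → InI I x := by
  constructor
  · intro h T x hx
    rw [← Subobject.factorThru_arrow _ _ ((fker_factors_iff X n x).2 hx)]
    exact InI.pre h _
  · exact fun h => h _ ((fker_factors_iff X n _).1 (Subobject.factors_self _))

/-- Quotients modulo a finitely generated ideal (or any ideal, given coproducts) exist. -/
lemma exists_isQuot (hI : I.FG ∨ HasCoproducts.{w} C) (X : C) :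
    ∃ (Q : C) (q : X ⟶ Q), ARSys.IsQuot I q := by
  have main : ∀ {ι : Type w} [HasColimitsOfShape (Discrete ι) C] (g : ι → A),
      Ideal.span (Set.range g) = I → ∃ (Q : C) (q : X ⟶ Q), ARSys.IsQuot I q := by
    intro ι _ g hg
    let m : (∐ fun _ : ι => X) ⟶ X := Sigma.desc fun i => g i • 𝟙 X
    refine ⟨cokernel m, cokernel.π m, ?_, fun Y φ hφ => ?_⟩
    · let K : Ideal A :=
        { carrier := {a | a • 𝟙 (cokernel m) = 0}
          add_mem' := fun {a b} ha hb => by simp_all [add_smul]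
          zero_mem' := by simp
          smul_mem' := fun c a ha => by simp_all [mul_smul] }
      have : I ≤ K := by
        rw [← hg, Ideal.span_le]
        rintro _ ⟨i, rfl⟩
        have h : (Sigma.ι (fun _ : ι => X) i ≫ m) ≫ cokernel.π m = 0 := by
          rw [Category.assoc, cokernel.condition, comp_zero]
        simp only [m, colimit.ι_desc, Cofan.mk_ι_app, Linear.smul_comp, Category.id_comp] at h
        show g i • 𝟙 (cokernel m) = 0
        rw [← cancel_epi (cokernel.π m), Linear.comp_smul, Category.comp_id, h, comp_zero]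
      exact fun a ha => this ha
    · refine ⟨cokernel.desc m φ ?_, cokernel.π_desc _ _ _, fun ψ hψ => ?_⟩
      · refine Sigma.hom_ext _ _ fun i => ?_
        have hi : g i ∈ I := hg ▸ Ideal.subset_span (Set.mem_range_self i)
        simp [m, hφ _ hi]
      · rw [← cancel_epi (cokernel.π m), hψ, cokernel.π_desc]
  rcases hI with hI | hI
  · obtain ⟨s, hs⟩ := hI
    exact main (ι := ULift.{w} (Fin s.card)) (fun i => (s.equivFin.symm i.down : A)) (by
      rw [← hs]; congr 1
      ext a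
      exact ⟨fun ⟨i, hi⟩ => hi ▸ (s.equivFin.symm i.down).2,
        fun ha => ⟨⟨s.equivFin ⟨a, ha⟩⟩, by simp⟩⟩)
  · have := hI ↥I
    exact main (fun i : ↥I => (i : A)) (by rw [Subtype.range_coe_subtype]; exact I.span_eq)

omit [Linear A C] in
lemma isStrict_of_epi {Y X : ARSys.PS C} (u : Y ⟶ X) [Epi u] (hY : ARSys.IsStrict Y) :
    ARSys.IsStrict X := fun n m h => by
  have := hY n m h
  have := epi_app u (op n)
  have : Epi (u.app (op m) ≫ ARSys.tr X h) := by rw [← tr_naturality]; infer_instance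
  exact epi_of_epi (u.app (op m)) _

omit [Linear A C] in
lemma epi_app_of_cokNull {Y X : ARSys.PS C} {u : Y ⟶ X} {r : ℕ} (hu : CokNull u r)
    (hX : ARSys.IsStrict X) (n : ℕ) : Epi (u.app (op n)) :=
  Preadditive.epi_of_cancel_zero _ fun {W} p hp => by
    have := hX n (n + r) (Nat.le_add_right n r)
    exact (cancel_epi (ARSys.tr X (Nat.le_add_right n r))).1
      (by rw [hu _ le_rfl p hp, comp_zero])

/-- If the translates of a strict killed system have adic quotients, it is adic up to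
translation. -/
lemma isARAdic_of_quot {X Y : ARSys.PS C} (hX : ARSys.IsStrict X) (kX : ARSys.TermKilled J X)
    (r : ℕ) (q : (ARSys.shift C r).obj X ⟶ Y)
    (hq : ∀ n, ARSys.IsQuot (J ^ (n + 1)) (q.app (op n))) (hY : ARSys.IsAdic J Y) :
    ARSys.IsARAdic J X := by
  let q' : ∀ n : ℕ, X.obj (op (n + r)) ⟶ Y.obj (op n) := fun n => q.app (op n)
  have hqe : ∀ n, Epi (q' n) := fun n => IsQuot.epi (hq n)
  have hnat : ∀ {a b : ℕ} (h : a ≤ b),
      ARSys.tr X (Nat.add_le_add_right h r) ≫ q' a = q' b ≫ ARSys.tr Y h := fun {a b} h => by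
    have := tr_naturality q h
    rwa [tr_shift] at this
  have hu : ∀ n : ℕ, ∃ u : Y.obj (op n) ⟶ X.obj (op n),
      q' n ≫ u = ARSys.tr X (Nat.le_add_right n r) := fun n =>
    ((hq n).2 _ _ (homKilledBy_of_killedBy_target _ (kX n))).exists
  choose u hu using hu
  let U : Y ⟶ X :=
    { app := fun o => u o.unop
      naturality := fun a b e => by
        obtain ⟨n⟩ := a; obtain ⟨m⟩ := b
        have hmn : m ≤ n := leOfHom e.unop
        rw [show e = (homOfLE hmn).op from Subsingleton.elim _ _]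
        show ARSys.tr Y hmn ≫ u m = u n ≫ ARSys.tr X hmn
        rw [← cancel_epi (q' n), ← Category.assoc, ← hnat, Category.assoc, hu,
          ← Category.assoc (q' n), hu, tr_comp, tr_comp] }
  refine ⟨kX, Y, U, hY, (isARIso_iff U).2 ⟨r, fun n m h hle W k hk => ?_,
    cokNull_of_exists_lift (r := r) fun n => ?_⟩⟩
  · obtain ⟨T, π, _, x, hx⟩ := surjective_up_to_refinements_of_epi (q' m) k
    have hk' : k ≫ u m = 0 := hk
    have hx0 : x ≫ ARSys.tr X (Nat.le_add_right m r) = 0 := by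
      rw [← hu m, ← Category.assoc, ← hx, Category.assoc, hk', comp_zero]
    rw [← cancel_epi π, comp_zero, ← Category.assoc, hx, Category.assoc, ← hnat,
      ← tr_comp X hle (Nat.le_add_right m r), Category.assoc, ← Category.assoc x, hx0, zero_comp]
  · exact ⟨_, 𝟙 _, inferInstance, q' n, by rw [Category.id_comp]; exact (hu n).symm⟩

end Groth.EtaleDeep.AR
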