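import Groth.Agent.EtaleDeep.AR.Adic
import Mathlib.Algebra.Category.ModuleCat.Abelian
import Mathlib.Algebra.Category.ModuleCat.EpiMono
import Mathlib.RingTheory.Filtration

/-!
# Adic systems of modules
-/

set_option autoImplicit false

universe v u

open CategoryTheory CategoryTheory.Limits Opposite

namespace Groth.EtaleDeep.AR

variable {A : Type u} [CommRing A] {I : Ideal A} {Y Z : ARSys.PS (ModuleCat.{v} A)}

lemma smul_eq_zero_of_killed {M : ModuleCat.{v} A} {J : Ideal A} (h : ARSys.KilledBy J M) {a : A}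
    (ha : a ∈ J) (x : M) : a • x = 0 := by
  have := congrArg (fun φ : M ⟶ M => φ.hom x) (h a ha)
  simpa using this

lemma tr_tr_apply (n m k : ℕ) (h : n ≤ m) (h' : m ≤ k) (x : Y.obj (op k)) :
    (ARSys.tr Y h).hom ((ARSys.tr Y h').hom x) = (ARSys.tr Y (h.trans h')).hom x := by
  rw [← tr_comp Y h h']
  rfl

lemma surjective_tr (hY : ARSys.IsAdic I Y) {n m : ℕ} (h : n ≤ m) :
    Function.Surjective (ARSys.tr Y h).hom :=
  (ModuleCat.epi_iff_surjective _).1 (IsQuot.epi (hY.2 n m h))

lemma mem_smul_top_of_tr_eq_zero (hY : ARSys.IsAdic I Y) {n m : ℕ} (h : n ≤ m) {x : Y.obj (op m)}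
    (hx : (ARSys.tr Y h).hom x = 0) : x ∈ I ^ (n + 1) • (⊤ : Submodule A (Y.obj (op m))) := by
  let W : ModuleCat.{v} A := ModuleCat.of A (Y.obj (op m) ⧸ (I ^ (n + 1) • ⊤ : Submodule A (Y.obj (op m))))
  let π : Y.obj (op m) ⟶ W := ModuleCat.ofHom (Submodule.mkQ _)
  obtain ⟨ψ, hψ, -⟩ := (hY.2 n m h).2 W π (fun a ha => by
    ext z
    show a • Submodule.Quotient.mk (p := (I ^ (n + 1) • ⊤ : Submodule A (Y.obj (op m)))) z = 0
    rw [← Submodule.Quotient.mk_smul, Submodule.Quotient.mk_eq_zero]
    exact Submodule.smul_mem_smul ha Submodule.mem_top)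
  refine (Submodule.Quotient.mk_eq_zero _).1 ?_
  have := congrArg (fun φ : Y.obj (op m) ⟶ W => φ.hom x) hψ
  simp only [ModuleCat.hom_comp, LinearMap.comp_apply, hx, map_zero] at this
  exact this.symm

/-- Lifts of generators of the first term generate every term. -/
lemma span_eq_top_of_lift (hY : ARSys.IsAdic I Y) (n : ℕ) {ι : Type*} (e : ι → Y.obj (op n))
    (he : Submodule.span A (Set.range fun i => (ARSys.tr Y (Nat.zero_le n)).hom (e i)) = ⊤) :
    Submodule.span A (Set.range e) = ⊤ := by
  let S := Submodule.span A (Set.range e)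
  have h1 : (⊤ : Submodule A (Y.obj (op n))) ≤ S ⊔ I • ⊤ := by
    intro x _
    obtain ⟨y, hy, hyx⟩ : (ARSys.tr Y (Nat.zero_le n)).hom x ∈ S.map (ARSys.tr Y (Nat.zero_le n)).hom := by
      rw [Submodule.map_span, ← Set.range_comp]
      exact he.symm ▸ Submodule.mem_top
    have := mem_smul_top_of_tr_eq_zero hY (Nat.zero_le n) (x := x - y) (by rw [map_sub, hyx, sub_self])
    rw [zero_add, pow_one] at this
    exact Submodule.mem_sup.2 ⟨y, hy, x - y, this, add_sub_cancel y x⟩
  have h2 : ∀ k : ℕ, (⊤ : Submodule A (Y.obj (op n))) ≤ S ⊔ I ^ k • ⊤ := by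
    intro k
    induction k with
    | zero => simp
    | succ k ih =>
      refine h1.trans (sup_le le_sup_left ((Submodule.smul_mono le_rfl ih).trans ?_))
      rw [Submodule.smul_sup, ← Submodule.mul_smul, ← pow_succ']
      exact sup_le_sup Submodule.smul_le_right le_rfl
  refine top_le_iff.1 ((h2 (n + 1)).trans (sup_le le_rfl ?_))
  rw [Submodule.smul_le]
  intro a ha x _
  rw [smul_eq_zero_of_killed (hY.1 n) ha x]
  exact S.zero_mem

/-- Multiplication by `I` into the next term only depends on the image in the previous one. -/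
lemma smul_eq_zero_of_tr_eq_zero (hY : ARSys.IsAdic I Y) {n : ℕ} {x : Y.obj (op (n + 1))}
    (hx : (ARSys.tr Y (Nat.le_succ n)).hom x = 0) {a : A} (ha : a ∈ I) : a • x = 0 := by
  have h1 := mem_smul_top_of_tr_eq_zero hY (Nat.le_succ n) hx
  refine Submodule.smul_induction_on h1 (fun b hb z _ => ?_) fun y z hy hz => ?_
  · rw [smul_smul]
    exact smul_eq_zero_of_killed (hY.1 (n + 1)) (by rw [pow_succ']; exact Ideal.mul_mem_mul ha hb) z
  · rw [smul_add, hy, hz, add_zero]

lemma mem_pow_smul_top_pi {m : ℕ} {n : ℕ} {z : Fin m → A}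
    (hz : z ∈ I ^ n • (⊤ : Submodule A (Fin m → A))) (i : Fin m) : z i ∈ I ^ n :=
  Submodule.smul_induction_on hz (fun _ ha w _ => Ideal.mul_mem_right (w i) _ ha)
    fun _ _ h h' => add_mem h h'

variable (hZ : ARSys.IsAdic I Z)

/-- The filtration by relations between the initial forms of generators. -/
noncomputable def relFiltration {m : ℕ} (e : ∀ n, Fin m → Z.obj (op n))
    (he : ∀ n i, (ARSys.tr Z (Nat.zero_le n)).hom (e n i) = e 0 i) : I.Filtration (Fin m → A) where
  N n := (I ^ n • ⊤) ⊓ LinearMap.ker (Fintype.linearCombination A (e n))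
  mono n := by
    rintro z ⟨hz, -⟩
    refine ⟨(Submodule.smul_mono (Ideal.pow_le_pow_right (Nat.le_succ n)) le_rfl) hz, ?_⟩
    rw [SetLike.mem_coe, LinearMap.mem_ker, Fintype.linearCombination_apply]
    exact Finset.sum_eq_zero fun i _ =>
      smul_eq_zero_of_killed (hZ.1 n) (mem_pow_smul_top_pi hz i) _
  smul_le n := by
    rw [Submodule.smul_le]
    rintro a ha z ⟨hz, hk⟩
    refine ⟨by rw [pow_succ', Submodule.mul_smul]; exact Submodule.smul_mem_smul ha hz, ?_⟩
    rw [SetLike.mem_coe, LinearMap.mem_ker] at hk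
    rw [SetLike.mem_coe, LinearMap.mem_ker, map_smul]
    have h2 : (ARSys.tr Z (Nat.le_succ n)).hom (Fintype.linearCombination A (e (n + 1)) z) =
        Fintype.linearCombination A (e n) z := by
      simp only [Fintype.linearCombination_apply, map_sum, map_smul]
      refine Finset.sum_congr rfl fun i _ => ?_
      rw [← sub_eq_zero, ← smul_sub]
      have h3 : (ARSys.tr Z (Nat.zero_le n)).hom ((ARSys.tr Z (Nat.le_succ n)).hom (e (n + 1) i) - e n i) = 0 := by
        rw [map_sub, tr_tr_apply, he, he, sub_self]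
      have h4 := mem_smul_top_of_tr_eq_zero hZ (Nat.zero_le n) h3
      rw [zero_add, pow_one] at h4
      refine Submodule.smul_induction_on h4 (fun b hb w _ => ?_) fun y w hy hw => by
        rw [smul_add, hy, hw, add_zero]
      rw [smul_smul]
      exact smul_eq_zero_of_killed (hZ.1 n)
        (by rw [pow_succ]; exact Ideal.mul_mem_mul (mem_pow_smul_top_pi hz i) hb) w
    exact smul_eq_zero_of_tr_eq_zero hZ (by rw [h2, hk]) ha

include hZ in
/-- A map of adic systems into a system of finite modules which is bijective in low degrees is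
bijective in all degrees. -/
theorem exists_bound_bijective [IsNoetherianRing A] [Module.Finite A (Z.obj (op 0))] :
    ∃ N : ℕ, ∀ (Y : ARSys.PS (ModuleCat.{v} A)), ARSys.IsAdic I Y → ∀ f : Y ⟶ Z,
      (∀ n ≤ N, Function.Bijective (f.app (op n)).hom) → ∀ n, Function.Bijective (f.app (op n)).hom := by
  obtain ⟨m, e₀, he₀⟩ := Module.Finite.exists_fin (R := A) (M := Z.obj (op 0))
  choose e he using fun n i => surjective_tr hZ (Nat.zero_le n) (e₀ i)
  have he' : ∀ n i, (ARSys.tr Z (Nat.zero_le n)).hom (e n i) = e 0 i := fun n i => by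
    rw [he, ← he 0 i, tr_self]
    rfl
  let F := relFiltration hZ e he'
  obtain ⟨N, hN⟩ : F.Stable := (I.stableFiltration_stable (⊤ : Submodule A (Fin m → A))).of_le
    fun n => inf_le_left
  refine ⟨N, fun Y hY f hf => ?_⟩
  choose b hb using fun i => (hf 0 (Nat.zero_le N)).2 (e 0 i)
  choose y hy using fun n i => surjective_tr hY (Nat.zero_le n) (b i)
  have hfy : ∀ n i, (ARSys.tr Z (Nat.zero_le n)).hom ((f.app (op n)).hom (y n i)) = e 0 i := fun n i => by
    have := congrArg (fun φ : Y.obj (op n) ⟶ Z.obj (op 0) => φ.hom (y n i))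
      (f.naturality (homOfLE (Nat.zero_le n)).op)
    simp only [ModuleCat.hom_comp, LinearMap.comp_apply] at this
    rw [← this]
    erw [hy]
    exact hb i
  -- surjectivity
  have hsurj : ∀ n, Function.Surjective (f.app (op n)).hom := fun n => by
    rw [← LinearMap.range_eq_top]
    refine top_le_iff.1 (le_trans (span_eq_top_of_lift hZ n (fun i => (f.app (op n)).hom (y n i)) ?_).ge ?_)
    · have h0 : (fun i => (ARSys.tr Z (Nat.zero_le n)).hom ((f.app (op n)).hom (y n i))) = e₀ :=
        funext fun i => by rw [hfy, ← he n i, he']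
      rw [h0, he₀]
    · rw [Submodule.span_le]
      rintro _ ⟨i, rfl⟩
      exact ⟨_, rfl⟩
  -- initial forms do not depend on the lifts
  have hindep : ∀ n (z : Fin m → A), z ∈ I ^ n • (⊤ : Submodule A (Fin m → A)) →
      (f.app (op n)).hom (Fintype.linearCombination A (y n) z) = Fintype.linearCombination A (e n) z := by
    intro n z hz
    simp only [Fintype.linearCombination_apply, map_sum, map_smul]
    refine Finset.sum_congr rfl fun i _ => ?_
    rw [← sub_eq_zero, ← smul_sub]
    have h4 := mem_smul_top_of_tr_eq_zero hZ (Nat.zero_le n)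
      (x := (f.app (op n)).hom (y n i) - e n i) (by rw [map_sub, hfy, he', sub_self])
    rw [zero_add, pow_one] at h4
    refine Submodule.smul_induction_on h4 (fun c hc w _ => ?_) fun v w hv hw => by
      rw [smul_add, hv, hw, add_zero]
    rw [smul_smul]
    exact smul_eq_zero_of_killed (hZ.1 n)
      (by rw [pow_succ]; exact Ideal.mul_mem_mul (mem_pow_smul_top_pi hz i) hc) w
  have hspan : ∀ n, Submodule.span A (Set.range (y n)) = ⊤ := fun n => by
    refine span_eq_top_of_lift hY n (y n) ?_
    have h0 : Submodule.span A (Set.range (y 0)) = ⊤ := by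
      have : Function.Injective (f.app (op 0)).hom := (hf 0 (Nat.zero_le N)).1
      apply Submodule.map_injective_of_injective this
      rw [Submodule.map_span, ← Set.range_comp, Submodule.map_top, LinearMap.range_eq_top.2 (hsurj 0)]
      have h0' : ((f.app (op 0)).hom ∘ y 0) = e₀ := funext fun i => by
        have := hfy 0 i
        rw [tr_self] at this
        refine this.trans ?_
        rw [← he 0 i, tr_self]
        rfl
      rw [h0', he₀]
    have h1 : (fun i => (ARSys.tr Y (Nat.zero_le n)).hom (y n i)) = y 0 := funext fun i => by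
      rw [hy, ← hy 0 i, tr_self]
      rfl
    rw [h1, h0]
  intro n
  refine ⟨?_, hsurj n⟩
  induction n with
  | zero => exact (hf 0 (Nat.zero_le N)).1
  | succ n ih =>
    rcases Nat.lt_or_ge n N with hn | hn
    · exact (hf (n + 1) hn).1
    rw [injective_iff_map_eq_zero]
    intro x hx
    have h1 : (ARSys.tr Y (Nat.le_succ n)).hom x = 0 := ih (by
      have := congrArg (fun φ : Y.obj (op (n + 1)) ⟶ Z.obj (op n) => φ.hom x)
        (f.naturality (homOfLE (Nat.le_succ n)).op)
      simp only [ModuleCat.hom_comp, LinearMap.comp_apply] at this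
      rw [this, hx, map_zero, map_zero])
    obtain ⟨z, hz, rfl⟩ : x ∈ (I ^ (n + 1) • (⊤ : Submodule A (Fin m → A))).map
        (Fintype.linearCombination A (y (n + 1))) := by
      rw [Submodule.map_smul'', Submodule.map_top, Fintype.range_linearCombination, hspan]
      exact mem_smul_top_of_tr_eq_zero hY (Nat.le_succ n) h1
    have hzN : z ∈ F.N (n + 1) := ⟨hz, by
      rw [SetLike.mem_coe, LinearMap.mem_ker, ← hindep _ _ hz]
      exact hx⟩
    rw [← hN n hn] at hzN
    refine Submodule.smul_induction_on hzN (fun a ha w hw => ?_) fun v w hv hw => by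
      rw [map_add, hv, hw, add_zero]
    rw [map_smul]
    refine smul_eq_zero_of_tr_eq_zero hY ?_ ha
    have hwn : Fintype.linearCombination A (y n) w = 0 := ih (by
      rw [hindep _ _ hw.1, map_zero]
      exact LinearMap.mem_ker.1 hw.2)
    rw [← hwn]
    simp only [Fintype.linearCombination_apply, map_sum, map_smul]
    refine Finset.sum_congr rfl fun i _ => ?_
    rw [← sub_eq_zero, ← smul_sub]
    have h4 := mem_smul_top_of_tr_eq_zero hY (Nat.zero_le n)
      (x := (ARSys.tr Y (Nat.le_succ n)).hom (y (n + 1) i) - y n i)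
      (by rw [map_sub, tr_tr_apply, hy, hy, sub_self])
    rw [zero_add, pow_one] at h4
    refine Submodule.smul_induction_on h4 (fun c hc v _ => ?_) fun u v hu hv => by
      rw [smul_add, hu, hv, add_zero]
    rw [smul_smul]
    exact smul_eq_zero_of_killed (hY.1 n)
      (by rw [pow_succ]; exact Ideal.mul_mem_mul (mem_pow_smul_top_pi hw.1 i) hc) v

end Groth.EtaleDeep.AR
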