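import Groth.Agent.EtaleDeep.ARBasic
import Mathlib.CategoryTheory.Subobject.FactorThru

/-!
# Projective systems up to translation: criteria by test morphisms
-/

universe v u

open CategoryTheory CategoryTheory.Limits Opposite

namespace Groth.EtaleDeep.AR

variable {C : Type u} [Category.{v} C] [Abelian C]

/-- A morphism factors through a subobject iff it is killed by all the morphisms killing it. -/
lemma factors_iff_kills {X T : C} (S : Subobject X) (x : T ⟶ X) :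
    S.Factors x ↔ ∀ ⦃W : C⦄ (h : X ⟶ W), S.arrow ≫ h = 0 → x ≫ h = 0 := by
  constructor
  · intro hx W h hh
    rw [← Subobject.factorThru_arrow S x hx, Category.assoc, hh, comp_zero]
  · intro hx
    have := S.factors_comp_arrow (Abelian.monoLift S.arrow x (hx _ (cokernel.condition _)))
    rwa [Abelian.monoLift_comp] at this

lemma imageSubobject_kills_iff {X Y W : C} (f : X ⟶ Y) (h : Y ⟶ W) :
    (imageSubobject f).arrow ≫ h = 0 ↔ f ≫ h = 0 := by
  conv_rhs => rw [← imageSubobject_arrow_comp f, Category.assoc,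
    ← comp_zero (f := factorThruImageSubobject f), cancel_epi]

lemma factors_imageSubobject_iff {X Y T : C} (f : X ⟶ Y) (x : T ⟶ Y) :
    (imageSubobject f).Factors x ↔ ∀ ⦃W : C⦄ (h : Y ⟶ W), f ≫ h = 0 → x ≫ h = 0 := by
  rw [factors_iff_kills]
  refine forall_congr' fun W => forall_congr' fun h => ?_
  rw [imageSubobject_kills_iff f h]

lemma le_iff_kills {X : C} (S T : Subobject X) :
    S ≤ T ↔ ∀ ⦃W : C⦄ (h : X ⟶ W), T.arrow ≫ h = 0 → S.arrow ≫ h = 0 := by
  rw [← factors_iff_kills]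
  exact ⟨fun h => Subobject.factors_of_le _ h (Subobject.factors_self S),
    fun h => Subobject.le_of_comm _ (Subobject.factorThru_arrow T S.arrow h)⟩

lemma imageSubobject_le_iff {X X' Y : C} (f : X ⟶ Y) (g : X' ⟶ Y) :
    imageSubobject f ≤ imageSubobject g ↔
      ∀ ⦃W : C⦄ (h : Y ⟶ W), g ≫ h = 0 → f ≫ h = 0 := by
  rw [le_iff_kills]
  refine forall_congr' fun W => forall_congr' fun h => ?_
  rw [imageSubobject_kills_iff f h, imageSubobject_kills_iff g h]

lemma imageSubobject_eq_iff {X X' Y : C} (f : X ⟶ Y) (g : X' ⟶ Y) :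
    imageSubobject f = imageSubobject g ↔
      ∀ ⦃W : C⦄ (h : Y ⟶ W), f ≫ h = 0 ↔ g ≫ h = 0 := by
  rw [le_antisymm_iff, imageSubobject_le_iff, imageSubobject_le_iff]
  exact ⟨fun ⟨h₁, h₂⟩ W h => ⟨h₂ h, h₁ h⟩, fun e => ⟨fun W h => (e h).2, fun W h => (e h).1⟩⟩

/-- An element killed by all morphisms killing `f` locally lifts along `f`. -/
lemma exists_lift_of_kills {X Y T : C} (f : X ⟶ Y) (x : T ⟶ Y)
    (hx : ∀ ⦃W : C⦄ (h : Y ⟶ W), f ≫ h = 0 → x ≫ h = 0) :
    ∃ (T' : C) (π : T' ⟶ T) (_ : Epi π) (y : T' ⟶ X), π ≫ x = y ≫ f :=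
  (ShortComplex.exact_of_g_is_cokernel (ShortComplex.mk f (cokernel.π f) (cokernel.condition f))
    (cokernelIsCokernel f)).exact_up_to_refinements x (hx _ (cokernel.condition f))

/-- A morphism killing `kernel u` extends along `u` after composing with a monomorphism. -/
lemma exists_extension {A B W : C} (u : A ⟶ B) (φ : A ⟶ W)
    (hφ : ∀ ⦃T : C⦄ (k : T ⟶ A), k ≫ u = 0 → k ≫ φ = 0) :
    ∃ (P : C) (i : W ⟶ P) (_ : Mono i) (ψ : B ⟶ P), u ≫ ψ = φ ≫ i := by
  have hker : kernel.ι (Abelian.factorThruImage u) ≫ φ = 0 :=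
    hφ _ (Eq.trans (congrArg (kernel.ι (Abelian.factorThruImage u) ≫ ·) (Abelian.image.fac u).symm)
      (by rw [kernel.condition_assoc, zero_comp]))
  refine ⟨pushout (Abelian.image.ι u) (Abelian.epiDesc _ φ hker), pushout.inr _ _, inferInstance,
    pushout.inl _ _, ?_⟩
  refine Eq.trans (congrArg (· ≫ pushout.inl _ _) (Abelian.image.fac u).symm) ?_
  rw [Category.assoc, pushout.condition, ← Category.assoc, Abelian.comp_epiDesc]

variable {X Y Z : ARSys.PS C}

/-- The translations of `kernel u` by `r` vanish. -/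
def KerNull (u : X ⟶ Y) (r : ℕ) : Prop :=
  ∀ ⦃n m : ℕ⦄ (h : n ≤ m), n + r ≤ m → ∀ ⦃W : C⦄ (k : W ⟶ X.obj (op m)),
    k ≫ u.app (op m) = 0 → k ≫ ARSys.tr X h = 0

/-- The translations of `cokernel u` by `r` vanish. -/
def CokNull (u : X ⟶ Y) (r : ℕ) : Prop :=
  ∀ ⦃n m : ℕ⦄ (h : n ≤ m), n + r ≤ m → ∀ ⦃W : C⦄ (p : Y.obj (op n) ⟶ W),
    u.app (op n) ≫ p = 0 → ARSys.tr Y h ≫ p = 0

lemma KerNull.mono {u : X ⟶ Y} {r r' : ℕ} (h : KerNull u r) (hr : r ≤ r') : KerNull u r' :=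
  fun _ _ hnm hle => h hnm (by omega)

lemma CokNull.mono {u : X ⟶ Y} {r r' : ℕ} (h : CokNull u r) (hr : r ≤ r') : CokNull u r' :=
  fun _ _ hnm hle => h hnm (by omega)

lemma mono_app (u : X ⟶ Y) [Mono u] (o : ℕᵒᵖ) : Mono (u.app o) :=
  inferInstanceAs (Mono (((evaluation ℕᵒᵖ C).obj o).map u))

lemma epi_app (u : X ⟶ Y) [Epi u] (o : ℕᵒᵖ) : Epi (u.app o) :=
  inferInstanceAs (Epi (((evaluation ℕᵒᵖ C).obj o).map u))

lemma kerNull_of_mono (u : X ⟶ Y) [Mono u] (r : ℕ) : KerNull u r := by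
  intro n m h _ W k hk
  have := mono_app u (op m)
  rw [show k = 0 from (cancel_mono (u.app (op m))).1 (by rw [hk, zero_comp]), zero_comp]

lemma cokNull_of_epi (u : X ⟶ Y) [Epi u] (r : ℕ) : CokNull u r := by
  intro n m h _ W p hp
  have := epi_app u (op n)
  rw [show p = 0 from (cancel_epi (u.app (op n))).1 (by rw [hp, comp_zero]), comp_zero]

lemma isARNull_kernel_iff (u : X ⟶ Y) : ARSys.IsARNull (kernel u) ↔ ∃ r, KerNull u r := by
  constructor
  · rintro ⟨r, hr⟩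
    refine ⟨r, fun n m h hle W k hk => ?_⟩
    have h' : n ≤ n + r := Nat.le_add_right n r
    rw [← tr_comp X h' hle, ← Category.assoc]
    exact comp_tr_eq_zero_of_kernel u (hr n) _
      (by rw [Category.assoc, tr_naturality, ← Category.assoc, hk, zero_comp])
  · rintro ⟨r, hr⟩
    refine ⟨r, fun n => ?_⟩
    have : Mono ((kernel.ι u).app (op n)) := mono_kernel_app u _
    show ARSys.tr (kernel u) (Nat.le_add_right n r) = 0
    rw [← cancel_mono ((kernel.ι u).app (op n)), zero_comp, tr_naturality]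
    exact hr _ le_rfl _ (by rw [← NatTrans.comp_app, kernel.condition]; rfl)

lemma epi_cokernel_app (u : X ⟶ Y) (o : ℕᵒᵖ) : Epi ((cokernel.π u).app o) :=
  inferInstanceAs (Epi (((evaluation ℕᵒᵖ C).obj o).map (cokernel.π u)))

lemma isARNull_cokernel_iff (u : X ⟶ Y) : ARSys.IsARNull (cokernel u) ↔ ∃ r, CokNull u r := by
  constructor
  · rintro ⟨r, hr⟩
    refine ⟨r, fun n m h hle W p hp => ?_⟩
    have h' : n ≤ n + r := Nat.le_add_right n r
    have : Epi (ShortComplex.mk (u.app (op n)) ((cokernel.π u).app (op n))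
        (by rw [← NatTrans.comp_app, cokernel.condition]; rfl)).g := epi_cokernel_app u _
    obtain ⟨q, rfl⟩ : ∃ q, (cokernel.π u).app (op n) ≫ q = p :=
      ⟨_, (exact_cokernel_app u (op n)).g_desc p hp⟩
    have h0 : ARSys.tr (cokernel u) h' = 0 := hr n
    rw [← tr_comp Y h' hle, Category.assoc, ← Category.assoc (ARSys.tr Y h'), tr_naturality, h0,
      comp_zero, zero_comp, comp_zero]
  · rintro ⟨r, hr⟩
    refine ⟨r, fun n => ?_⟩
    have := epi_cokernel_app u (op (n + r))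
    show ARSys.tr (cokernel u) (Nat.le_add_right n r) = 0
    rw [← cancel_epi ((cokernel.π u).app (op (n + r))), comp_zero, ← tr_naturality]
    exact hr _ le_rfl _ (by rw [← NatTrans.comp_app, cokernel.condition]; rfl)

lemma isARIso_iff (u : X ⟶ Y) :
    ARSys.IsARIso u ↔ ∃ r, KerNull u r ∧ CokNull u r := by
  rw [ARSys.IsARIso, isARNull_kernel_iff, isARNull_cokernel_iff]
  exact ⟨fun ⟨⟨a, ha⟩, ⟨b, hb⟩⟩ => ⟨max a b, ha.mono (le_max_left _ _), hb.mono (le_max_right _ _)⟩,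
    fun ⟨r, h₁, h₂⟩ => ⟨⟨r, h₁⟩, ⟨r, h₂⟩⟩⟩

lemma isARIso_of_isIso (u : X ⟶ Y) [IsIso u] : ARSys.IsARIso u :=
  (isARIso_iff u).2 ⟨0, kerNull_of_mono u 0, cokNull_of_epi u 0⟩

/-- Elements of the target of a map with null cokernel lift after translation. -/
lemma CokNull.exists_lift {u : X ⟶ Y} {r : ℕ} (hu : CokNull u r) {n m : ℕ} (h : n ≤ m)
    (hle : n + r ≤ m) {T : C} (y : T ⟶ Y.obj (op m)) :
    ∃ (T' : C) (π : T' ⟶ T) (_ : Epi π) (x : T' ⟶ X.obj (op n)),
      π ≫ y ≫ ARSys.tr Y h = x ≫ u.app (op n) :=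
  exists_lift_of_kills _ _ fun W p hp => by rw [Category.assoc, hu h hle p hp, comp_zero]

/-- Lifting criterion for a null cokernel. -/
lemma cokNull_of_exists_lift {u : X ⟶ Y} {r : ℕ}
    (hu : ∀ n : ℕ, ∃ (T : C) (π : T ⟶ Y.obj (op (n + r))) (_ : Epi π) (x : T ⟶ X.obj (op n)),
      π ≫ ARSys.tr Y (Nat.le_add_right n r) = x ≫ u.app (op n)) : CokNull u r := by
  intro n m h hle W p hp
  obtain ⟨T, π, _, x, e⟩ := hu n
  rw [← tr_comp Y (Nat.le_add_right n r) hle, Category.assoc]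
  rw [show ARSys.tr Y (Nat.le_add_right n r) ≫ p = 0 by
    rw [← cancel_epi π, ← Category.assoc, e, Category.assoc, hp, comp_zero, comp_zero], comp_zero]

lemma KerNull.comp {u : X ⟶ Y} {v : Y ⟶ Z} {r s : ℕ} (hu : KerNull u r) (hv : KerNull v s) :
    KerNull (u ≫ v) (r + s) := by
  intro n m h hle W k hk
  have h₁ : n + r ≤ m := by omega
  rw [NatTrans.comp_app, ← Category.assoc] at hk
  have := hv h₁ (by omega) _ hk
  rw [Category.assoc, ← tr_naturality, ← Category.assoc] at this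
  rw [← tr_comp X (Nat.le_add_right n r) h₁, ← Category.assoc]
  exact hu _ le_rfl _ this

lemma CokNull.comp {u : X ⟶ Y} {v : Y ⟶ Z} {r s : ℕ} (hu : CokNull u r) (hv : CokNull v s) :
    CokNull (u ≫ v) (r + s) := by
  intro n m h hle W p hp
  have h₁ : n + r ≤ m := by omega
  rw [NatTrans.comp_app, Category.assoc] at hp
  have := hu (Nat.le_add_right n r) le_rfl _ hp
  rw [← Category.assoc, tr_naturality, Category.assoc] at this
  rw [← tr_comp Z (Nat.le_add_right n r) h₁, Category.assoc]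
  exact hv h₁ (by omega) _ this

lemma isARIso_comp {u : X ⟶ Y} {v : Y ⟶ Z} (hu : ARSys.IsARIso u) (hv : ARSys.IsARIso v) :
    ARSys.IsARIso (u ≫ v) := by
  obtain ⟨r, hu₁, hu₂⟩ := (isARIso_iff u).1 hu
  obtain ⟨s, hv₁, hv₂⟩ := (isARIso_iff v).1 hv
  exact (isARIso_iff _).2 ⟨r + s, hu₁.comp hv₁, hu₂.comp hv₂⟩

/-- The uniform Mittag-Leffler condition by test morphisms. -/
def MLKills (X : ARSys.PS C) (r : ℕ) : Prop :=
  ∀ ⦃n m : ℕ⦄ (hm : n ≤ m), n + r ≤ m → ∀ ⦃W : C⦄ (p : X.obj (op n) ⟶ W),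
    ARSys.tr X hm ≫ p = 0 → ∀ ⦃k : ℕ⦄ (hk : n ≤ k), n + r ≤ k → ARSys.tr X hk ≫ p = 0

lemma isMLAR_iff (X : ARSys.PS C) : ARSys.IsMLAR X ↔ ∃ r, MLKills X r := by
  constructor
  · rintro ⟨r, hr⟩
    refine ⟨r, fun n m hm hle W p hp k hk hk' => ?_⟩
    obtain ⟨s, rfl⟩ : ∃ s, m = n + s := ⟨m - n, by omega⟩
    have h₀ : ARSys.tr X (Nat.le_add_right n r) ≫ p = 0 :=
      ((imageSubobject_eq_iff _ _).1 (hr s (by omega) n) p).1 hp
    rw [← tr_comp X (Nat.le_add_right n r) hk', Category.assoc, h₀, comp_zero]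
  · rintro ⟨r, hr⟩
    refine ⟨r, fun s hs n => (imageSubobject_eq_iff _ _).2 fun W p => ⟨fun h => ?_, fun h => ?_⟩⟩
    · exact hr (Nat.le_add_right n s) (by omega) p h _ le_rfl
    · exact hr (Nat.le_add_right n r) le_rfl p h _ (Nat.add_le_add_left hs n)

lemma mlKills_of_zero {r : ℕ} (h : ∀ (n m : ℕ) (hnm : n ≤ m), n + r ≤ m → ARSys.tr X hnm = 0) :
    MLKills X r := fun n _ _ _ _ p _ k hk hk' => by rw [h n k hk hk', zero_comp]

lemma mlKills_of_isStrict (h : ARSys.IsStrict X) : MLKills X 0 := fun n m hm _ W p hp k hk _ => by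
  have := h n m hm
  rw [show p = 0 from (cancel_epi (ARSys.tr X hm)).1 (by rw [hp, comp_zero]), comp_zero]

/-- The Mittag-Leffler condition descends along maps with null kernel and cokernel. -/
lemma isMLAR_of_isARIso {u : X ⟶ Y} (hu : ARSys.IsARIso u) (hY : ARSys.IsMLAR Y) :
    ARSys.IsMLAR X := by
  obtain ⟨a, hu₁, hu₂⟩ := (isARIso_iff u).1 hu
  obtain ⟨b, hb⟩ := (isMLAR_iff Y).1 hY
  refine (isMLAR_iff X).2 ⟨a + b, fun n m hm hle W p hp k hk hk' => ?_⟩
  have hn' : n ≤ n + a := Nat.le_add_right n a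
  obtain ⟨P, i, _, ψ, hψ⟩ := exists_extension (u.app (op (n + a))) (ARSys.tr X hn' ≫ p)
    (fun T l hl => by rw [← Category.assoc, hu₁ hn' le_rfl l hl, zero_comp])
  have hm' : n + a ≤ m := by omega
  have e : u.app (op m) ≫ ARSys.tr Y hm' ≫ ψ = 0 := by
    rw [← Category.assoc, ← tr_naturality, Category.assoc, hψ, ← Category.assoc,
      ← Category.assoc, tr_comp, hp, zero_comp]
  have e₁ := hu₂ (Nat.le_add_right m a) le_rfl _ e
  rw [← Category.assoc, tr_comp] at e₁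
  have e₂ := hb _ (by omega) ψ e₁ (show n + a ≤ k by omega) (by omega)
  rw [← cancel_mono i, zero_comp, ← tr_comp X hn' (show n + a ≤ k by omega), Category.assoc,
    Category.assoc, ← Category.assoc (ARSys.tr X hn'), ← hψ, ← Category.assoc, tr_naturality,
    Category.assoc, e₂, comp_zero]

end Groth.EtaleDeep.AR
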