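import Groth.Agent.EtaleDeep.AR.Core

/-!
# The translation map and universal images
-/

universe v u

open CategoryTheory CategoryTheory.Limits Opposite

namespace Groth.EtaleDeep.AR

variable {C : Type u} [Category.{v} C]

/-- The canonical map `X[r] ⟶ X`. -/
def tau (X : ARSys.PS C) (r : ℕ) : (ARSys.shift C r).obj X ⟶ X where
  app o := ARSys.shiftMap X r o.unop
  naturality a b g := by
    show X.map ((ARSys.addF r).op.map g) ≫ X.map _ = X.map _ ≫ X.map g
    rw [← X.map_comp, ← X.map_comp]
    exact congrArg X.map (Subsingleton.elim _ _)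

@[simp]
lemma tau_app (X : ARSys.PS C) (r n : ℕ) :
    (tau X r).app (op n) = ARSys.tr X (Nat.le_add_right n r) := rfl

lemma tr_shift (X : ARSys.PS C) (r : ℕ) {n m : ℕ} (h : n ≤ m) :
    ARSys.tr ((ARSys.shift C r).obj X) h = ARSys.tr X (Nat.add_le_add_right h r) :=
  congrArg X.map (Subsingleton.elim _ _)

lemma tau_naturality {X Y : ARSys.PS C} (f : X ⟶ Y) (r : ℕ) :
    (ARSys.shift C r).map f ≫ tau Y r = tau X r ≫ f := by
  ext ⟨n⟩
  exact (f.naturality (homOfLE (Nat.le_add_right n r)).op).symm

variable [Abelian C]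

/-- Universal images: a system satisfying the uniform Mittag-Leffler condition contains a strict
subsystem, with null quotient, whose components are the stable images. -/
lemma exists_univImages {X : ARSys.PS C} {r : ℕ} (hr : MLKills X r) :
    ∃ (X' : ARSys.PS C) (ι : X' ⟶ X), Mono ι ∧ ARSys.IsStrict X' ∧ CokNull ι r ∧
      ∀ (n s : ℕ), r ≤ s →
        imageSubobject (ι.app (op n)) = imageSubobject (ARSys.shiftMap X s n) := by
  set e := Abelian.factorThruImage (tau X r) with he
  set ι := Abelian.image.ι (tau X r) with hι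
  let e' : ∀ n : ℕ, X.obj (op (n + r)) ⟶ (Abelian.image (tau X r)).obj (op n) :=
    fun n => e.app (op n)
  have hfac : ∀ n, e' n ≫ ι.app (op n) = ARSys.tr X (Nat.le_add_right n r) := fun n =>
    congrArg (fun t => NatTrans.app t (op n)) (Abelian.image.fac (tau X r))
  have hepi : ∀ n, Epi (e' n) := fun n =>
    inferInstanceAs (Epi (((evaluation ℕᵒᵖ C).obj (op n)).map
      (Abelian.factorThruImage (tau X r))))
  refine ⟨_, ι, inferInstance, fun n m h => ?_, fun n m h hle W p hp => ?_, fun n s hs => ?_⟩
  · refine Preadditive.epi_of_cancel_zero _ fun {W} k hk => ?_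
    have : Mono (ι.app (op n)) :=
      inferInstanceAs (Mono (((evaluation ℕᵒᵖ C).obj (op n)).map (Abelian.image.ι (tau X r))))
    obtain ⟨P, i, _, ψ, hψ⟩ := exists_extension (ι.app (op n)) k
      (fun T l hl => by rw [show l = 0 from (cancel_mono (ι.app (op n))).1 (by rw [hl, zero_comp]),
        zero_comp])
    have h0 : ARSys.tr X (show n ≤ m + r by omega) ≫ ψ = 0 := by
      rw [← tr_comp X h (Nat.le_add_right m r), ← hfac m]
      simp only [Category.assoc]
      rw [← Category.assoc (ι.app (op m)), ← tr_naturality, Category.assoc, hψ,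
        ← Category.assoc (ARSys.tr _ h), hk, zero_comp, comp_zero]
    have h1 := hr _ (by omega) ψ h0 (Nat.le_add_right n r) le_rfl
    rw [← hfac n, Category.assoc, hψ, ← Category.assoc] at h1
    rw [← cancel_epi (e' n), comp_zero]
    exact (cancel_mono i).1 (by rw [h1, zero_comp])
  · rw [← tr_comp X (Nat.le_add_right n r) hle, ← hfac n]
    simp [hp]
  · refine (imageSubobject_eq_iff _ _).2 fun W p => ⟨fun h => ?_, fun h => ?_⟩
    · show ARSys.tr X (Nat.le_add_right n s) ≫ p = 0
      rw [← tr_comp X (Nat.le_add_right n r) (Nat.add_le_add_left hs n), ← hfac n]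
      simp [h]
    · have h1 := hr _ (show n + r ≤ n + s by omega) p h (Nat.le_add_right n r) le_rfl
      rw [← hfac n, Category.assoc] at h1
      exact (cancel_epi (e' n)).1 (by rw [h1, comp_zero])

end Groth.EtaleDeep.AR
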