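import Groth.Agent.EtaleDeep.AR.Kernels
import Groth.Agent.EtaleDeep.AR.Images

/-!
# Universal images of systems receiving a strict or adic system
-/

universe w v u

open CategoryTheory CategoryTheory.Limits Opposite

namespace Groth.EtaleDeep.AR

variable {C : Type u} [Category.{v} C] [Abelian C] {X Y Z : ARSys.PS C}

/-- A morphism from a strict system with null kernel and cokernel lands in a subsystem with null
quotient that is made of images of transition maps. -/
lemma exists_lift_univImages {u : Y ⟶ X} {a : ℕ} (hY : ARSys.IsStrict Y) (hk : KerNull u a)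
    (hc : CokNull u a) (ι : Z ⟶ X) [Mono ι] (hZ : ARSys.IsStrict Z) {r : ℕ}
    (him : ∀ (n : ℕ) ⦃W : C⦄ (p : X.obj (op n) ⟶ W), ι.app (op n) ≫ p = 0 →
      ARSys.tr X (Nat.le_add_right n r) ≫ p = 0) :
    ∃ s : Y ⟶ Z, s ≫ ι = u ∧ KerNull s a ∧ ∀ n, Epi (s.app (op n)) := by
  have key : ∀ (n : ℕ) ⦃W : C⦄ (p : X.obj (op n) ⟶ W), ι.app (op n) ≫ p = 0 →
      u.app (op n) ≫ p = 0 := fun n W p hp => by
    have := hY n (n + r) (Nat.le_add_right n r)
    rw [← cancel_epi (ARSys.tr Y (Nat.le_add_right n r)), comp_zero, ← Category.assoc, tr_naturality,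
      Category.assoc, him n p hp, comp_zero]
  have h0 : u ≫ cokernel.π ι = 0 := by
    refine NatTrans.ext (funext fun ⟨n⟩ => ?_)
    show u.app (op n) ≫ (cokernel.π ι).app (op n) = 0
    exact key n _ (by rw [← NatTrans.comp_app, cokernel.condition]; rfl)
  let s := Abelian.monoLift ι u h0
  have hs : s ≫ ι = u := Abelian.monoLift_comp _ _ _
  have hs' : ∀ n, s.app (op n) ≫ ι.app (op n) = u.app (op n) := fun n => by
    rw [← NatTrans.comp_app, hs]
  have hsc : CokNull s a := fun n m h hle W p hp => by
    obtain ⟨P, i, hi, ψ, hψ⟩ := exists_extension (ι.app (op n)) p (fun T l hl => by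
      have := mono_app ι (op n)
      rw [show l = 0 from (cancel_mono (ι.app (op n))).1 (by rw [hl, zero_comp]), zero_comp])
    have h1 : u.app (op n) ≫ ψ = 0 := by
      rw [← hs', Category.assoc, hψ, ← Category.assoc, hp, zero_comp]
    rw [← cancel_mono i, zero_comp, Category.assoc, ← hψ, ← Category.assoc, tr_naturality,
      Category.assoc, hc h hle ψ h1, comp_zero]
  exact ⟨s, hs, fun n m h hle W k hk' => hk h hle k (by rw [← hs', ← Category.assoc, hk', zero_comp]),
    epi_app_of_cokNull hsc hZ⟩

variable {A : Type w} [CommRing A] [Linear A C] {J : Ideal A}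

/-- The kernels of the transition maps of a quotient of an adic system by a null kernel. -/
lemma inI_of_epi_adic {u : Y ⟶ X} {a : ℕ} (hY : ARSys.IsAdic J Y) (hk : KerNull u a)
    (hu : ∀ n, Epi (u.app (op n))) (n : ℕ) ⦃T : C⦄ (x : T ⟶ X.obj (op n)) (hx : InF X n n x) :
    InI (J ^ (n - a)) x := by
  rcases le_or_gt n a with h | h
  · rw [Nat.sub_eq_zero_of_le h, pow_zero, Ideal.one_eq_top]
    exact inI_top x
  · have := hu n
    obtain ⟨T', π, _, y, hy⟩ := surjective_up_to_refinements_of_epi (u.app (op n)) x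
    refine inI_of_epi π ?_
    rw [hy]
    refine (inI_of_inF hY fun k hk' hkq => ?_).comp _
    have h1 : (y ≫ ARSys.tr Y (show n - 1 ≤ n by omega)) ≫ u.app (op (n - 1)) = 0 := by
      rw [Category.assoc, tr_naturality, ← Category.assoc, ← hy, Category.assoc,
        hx (n - 1) (by omega) (by omega), comp_zero]
    have h2 := hk (show k ≤ n - 1 by omega) (by omega) _ h1
    rwa [Category.assoc, tr_comp] at h2

/-- An adic system with trivial initial term is trivial. -/
lemma id_eq_zero_of_isAdic (hY : ARSys.IsAdic J Y) (h0 : 𝟙 (Y.obj (op 0)) = 0) (n : ℕ) :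
    𝟙 (Y.obj (op n)) = 0 := by
  have h1 : InI J (𝟙 (Y.obj (op n))) := by
    have := IsQuot.inI (hY.2 0 n (Nat.zero_le n)) (k := 𝟙 (Y.obj (op n))) (by
      rw [Category.id_comp, ← Category.comp_id (ARSys.tr Y _), h0, comp_zero])
    simpa using this
  have hpow : ∀ k : ℕ, InI (J ^ k) (𝟙 (Y.obj (op n))) := by
    intro k
    induction k with
    | zero => rw [pow_zero, Ideal.one_eq_top]; exact inI_top _
    | succ k ih =>
      intro W φ hφ
      refine h1 φ fun a ha => ?_
      have := ih (a • φ) fun b hb => by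
        rw [smul_smul]
        exact hφ _ (by rw [pow_succ]; exact Ideal.mul_mem_mul hb ha)
      rwa [Category.id_comp] at this
  exact (hpow (n + 1)).eq_zero (hY.1 n)

omit [Linear A C] in
/-- A system receiving a morphism with null cokernel from a trivial system is null. -/
lemma isARNull_of_cokNull {u : Y ⟶ X} {a : ℕ} (hc : CokNull u a) (h0 : ∀ n, u.app (op n) = 0) :
    ARSys.IsARNull X :=
  ⟨a, fun n => by
    have := hc (Nat.le_add_right n a) le_rfl (𝟙 _) (by rw [h0, zero_comp])
    rwa [Category.comp_id] at this⟩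

omit [Linear A C] in
/-- Limits of null systems vanish. -/
lemma isZero_limit_of_isARNull [HasLimit X] (h : ARSys.IsARNull X) : IsZero (limit X) := by
  obtain ⟨r, hr⟩ := h
  refine (IsZero.iff_id_eq_zero _).2 (limit.hom_ext fun ⟨n⟩ => ?_)
  rw [Category.id_comp, zero_comp, ← limit.w X (homOfLE (Nat.le_add_right n r)).op]
  exact (congrArg (limit.π X (op (n + r)) ≫ ·) (hr n)).trans comp_zero

end Groth.EtaleDeep.AR
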