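import Groth.Agent.EtaleDeep.AR.Adic
import Mathlib.Algebra.Homology.ShortComplex.ShortExact
import Mathlib.CategoryTheory.Limits.Shapes.Pullback.IsPullback.Basic

/-!
# Exact sequences of systems and adic systems up to translation
-/

universe w v u

open CategoryTheory CategoryTheory.Limits Opposite

namespace Groth.EtaleDeep.AR

variable {C : Type u} [Category.{v} C] [Abelian C]

variable {X Y Z : ARSys.PS C}

lemma isMLAR_of_strict {u : Y ⟶ X} {r : ℕ} (hY : ARSys.IsStrict Y) (hc : CokNull u r) :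
    ARSys.IsMLAR X := by
  refine (isMLAR_iff X).2 ⟨r, fun n m hm hle W p hp k hk hk' => hc hk hk' p ?_⟩
  have := hY n m hm
  rw [← cancel_epi (ARSys.tr Y hm), comp_zero, ← Category.assoc, tr_naturality, Category.assoc, hp,
    comp_zero]

lemma exists_strict_sub (h : ARSys.IsMLAR X) :
    ∃ (X' : ARSys.PS C) (ι : X' ⟶ X) (r : ℕ), Mono ι ∧ ARSys.IsStrict X' ∧ CokNull ι r := by
  obtain ⟨r, hr⟩ := (isMLAR_iff X).1 h
  obtain ⟨X', ι, h₁, h₂, h₃, -⟩ := exists_univImages hr
  exact ⟨X', ι, r, h₁, h₂, h₃⟩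

/-- An element of a system killed by a kernel-forming map factors through the kernel. -/
lemma exists_factor_kernel (u : X ⟶ Y) (n : ℕ) {T : C} (x : T ⟶ X.obj (op n))
    (hx : x ≫ u.app (op n) = 0) :
    ∃ l : T ⟶ (kernel u).obj (op n), l ≫ (kernel.ι u).app (op n) = x := by
  have : Mono (ShortComplex.mk ((kernel.ι u).app (op n)) (u.app (op n))
      (by rw [← NatTrans.comp_app, kernel.condition]; rfl)).f := mono_app _ _
  exact ⟨(exact_kernel_app u (op n)).lift x hx, (exact_kernel_app u (op n)).lift_f x hx⟩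

lemma exists_factor_of_shortExact {S : ShortComplex (ARSys.PS C)} (hS : S.ShortExact) (n : ℕ)
    {T : C} (x : T ⟶ S.X₂.obj (op n)) (hx : x ≫ S.g.app (op n) = 0) :
    ∃ l : T ⟶ S.X₁.obj (op n), l ≫ S.f.app (op n) = x := by
  obtain ⟨hm, -, hex⟩ := shortExact_app hS n
  have : Mono (S.map ((evaluation ℕᵒᵖ C).obj (op n))).f := hm
  exact ⟨hex.lift x hx, hex.lift_f x hx⟩

lemma shortExact_cokernel (f : X ⟶ Y) [Mono f] :
    (ShortComplex.mk f (cokernel.π f) (cokernel.condition f)).ShortExact :=
  { exact := ShortComplex.exact_of_g_is_cokernel _ (cokernelIsCokernel f) }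

lemma shortExact_kernel (g : X ⟶ Y) [Epi g] :
    (ShortComplex.mk (kernel.ι g) g (kernel.condition g)).ShortExact :=
  { exact := ShortComplex.exact_of_f_is_kernel _ (kernelIsKernel g) }

lemma pullback_hom_ext_app {f : X ⟶ Z} {g : Y ⟶ Z} (n : ℕ) {T : C}
    {a b : T ⟶ (pullback f g).obj (op n)}
    (h₁ : a ≫ (pullback.fst f g).app (op n) = b ≫ (pullback.fst f g).app (op n))
    (h₂ : a ≫ (pullback.snd f g).app (op n) = b ≫ (pullback.snd f g).app (op n)) : a = b :=
  ((IsPullback.of_hasPullback f g).map ((evaluation ℕᵒᵖ C).obj (op n))).hom_ext h₁ h₂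

lemma exists_pullback_lift_app {f : X ⟶ Z} {g : Y ⟶ Z} (n : ℕ) {T : C} (x : T ⟶ X.obj (op n))
    (y : T ⟶ Y.obj (op n)) (h : x ≫ f.app (op n) = y ≫ g.app (op n)) :
    ∃ p : T ⟶ (pullback f g).obj (op n), p ≫ (pullback.fst f g).app (op n) = x ∧
      p ≫ (pullback.snd f g).app (op n) = y :=
  let hP := (IsPullback.of_hasPullback f g).map ((evaluation ℕᵒᵖ C).obj (op n))
  ⟨hP.lift x y h, hP.lift_fst x y h, hP.lift_snd x y h⟩

lemma KerNull.pullback_fst {f : X ⟶ Z} {g : Y ⟶ Z} {r : ℕ} (hg : KerNull g r) :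
    KerNull (pullback.fst f g) r := by
  intro n m h hle W k hk
  refine pullback_hom_ext_app n ?_ ?_
  · rw [Category.assoc, tr_naturality, ← Category.assoc, hk, zero_comp, zero_comp]
  · rw [Category.assoc, tr_naturality, ← Category.assoc, zero_comp]
    refine hg h hle _ ?_
    rw [Category.assoc, ← NatTrans.comp_app, ← pullback.condition, NatTrans.comp_app,
      ← Category.assoc, hk, zero_comp]

lemma KerNull.pullback_snd {f : X ⟶ Z} {g : Y ⟶ Z} {r : ℕ} (hf : KerNull f r) :
    KerNull (pullback.snd f g) r := by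
  intro n m h hle W k hk
  refine pullback_hom_ext_app n ?_ ?_
  · rw [Category.assoc, tr_naturality, ← Category.assoc, zero_comp]
    refine hf h hle _ ?_
    rw [Category.assoc, ← NatTrans.comp_app, pullback.condition, NatTrans.comp_app,
      ← Category.assoc, hk, zero_comp]
  · rw [Category.assoc, tr_naturality, ← Category.assoc, hk, zero_comp, zero_comp]

lemma CokNull.pullback_fst {f : X ⟶ Z} {g : Y ⟶ Z} {r : ℕ} (hg : CokNull g r) :
    CokNull (pullback.fst f g) r := by
  refine cokNull_of_exists_lift fun n => ?_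
  obtain ⟨T, π, _, y, hy⟩ := hg.exists_lift (Nat.le_add_right n r) le_rfl (f.app (op (n + r)))
  rw [← tr_naturality f] at hy
  obtain ⟨p, hp, -⟩ := exists_pullback_lift_app (f := f) (g := g) n
    (π ≫ ARSys.tr X (Nat.le_add_right n r)) y (by rw [Category.assoc]; exact hy)
  exact ⟨T, π, inferInstance, p, hp.symm⟩

lemma CokNull.pullback_snd {f : X ⟶ Z} {g : Y ⟶ Z} {r : ℕ} (hf : CokNull f r) :
    CokNull (pullback.snd f g) r := by
  refine cokNull_of_exists_lift fun n => ?_
  obtain ⟨T, π, _, x, hx⟩ := hf.exists_lift (Nat.le_add_right n r) le_rfl (g.app (op (n + r)))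
  rw [← tr_naturality g] at hx
  obtain ⟨p, -, hp⟩ := exists_pullback_lift_app (f := f) (g := g) n x
    (π ≫ ARSys.tr Y (Nat.le_add_right n r)) (by rw [Category.assoc]; exact hx.symm)
  exact ⟨T, π, inferInstance, p, hp.symm⟩

variable {A : Type w} [CommRing A] [Linear A C] {J : Ideal A}

lemma termKilled_of_mono (i : X ⟶ Y) [Mono i] (h : ARSys.TermKilled J Y) :
    ARSys.TermKilled J X := fun n => by
  have := mono_app i (op n)
  exact killedBy_of_mono (i.app (op n)) (h n)

lemma termKilled_of_epi (p : X ⟶ Y) [Epi p] (h : ARSys.TermKilled J X) :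
    ARSys.TermKilled J Y := fun n => by
  have := epi_app p (op n)
  exact killedBy_of_epi (p.app (op n)) (h n)

lemma termKilled_pullback {f : X ⟶ Z} {g : Y ⟶ Z} (hX : ARSys.TermKilled J X)
    (hY : ARSys.TermKilled J Y) : ARSys.TermKilled J (pullback f g) := fun n a ha => by
  refine pullback_hom_ext_app n ?_ ?_
  · rw [Linear.smul_comp, Category.id_comp, zero_comp]
    exact homKilledBy_of_killedBy_target _ (hX n) a ha
  · rw [Linear.smul_comp, Category.id_comp, zero_comp]
    exact homKilledBy_of_killedBy_target _ (hY n) a ha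

/-- A quotient of a system that is adic up to translation by a uniformly Mittag-Leffler system is
adic up to translation. -/
lemma isARAdic_X₃ {S : ShortComplex (ARSys.PS C)} (hS : S.ShortExact)
    (k₃ : ARSys.TermKilled J S.X₃) (h₁ : ARSys.IsMLAR S.X₁) (h₂ : ARSys.IsARAdic J S.X₂) :
    ARSys.IsARAdic J S.X₃ := by
  obtain ⟨-, Y, u, hY, hu⟩ := h₂
  obtain ⟨r, huk, huc⟩ := (isARIso_iff u).1 hu
  have := hS.mono_f
  have := hS.epi_g
  set v := u ≫ S.g with hv
  have hvc : CokNull v (r + 0) := huc.comp (cokNull_of_epi S.g 0)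
  -- the comparison of `kernel v` with the first term
  have hwz : (kernel.ι v ≫ u) ≫ S.g = 0 := by rw [Category.assoc, ← hv, kernel.condition]
  let w : kernel v ⟶ S.X₁ := hS.exact.lift (kernel.ι v ≫ u) hwz
  have hw : w ≫ S.f = kernel.ι v ≫ u := hS.exact.lift_f _ _
  have hwapp : ∀ n, w.app (op n) ≫ S.f.app (op n) =
      (kernel.ι v).app (op n) ≫ u.app (op n) := fun n =>
    congrArg (fun t => NatTrans.app t (op n)) hw
  have hwi : ARSys.IsARIso w := by
    refine (isARIso_iff w).2 ⟨r, fun n m h hle W k hk => ?_, cokNull_of_exists_lift fun n => ?_⟩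
    · have := mono_app (kernel.ι v) (op n)
      rw [← cancel_mono ((kernel.ι v).app (op n)), zero_comp, Category.assoc, tr_naturality,
        ← Category.assoc]
      exact huk h hle _ (by rw [Category.assoc, ← hwapp, ← Category.assoc, hk, zero_comp])
    · obtain ⟨T, π, _, x, hx⟩ :=
        huc.exists_lift (Nat.le_add_right n r) le_rfl (S.f.app (op (n + r)))
      rw [← tr_naturality] at hx
      obtain ⟨l, hl⟩ := exists_factor_kernel v n x (by
        rw [hv, NatTrans.comp_app, ← Category.assoc, ← hx, Category.assoc, Category.assoc,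
          ← NatTrans.comp_app, S.zero]
        simp)
      have := (shortExact_app hS n).1
      refine ⟨T, π, inferInstance, l, ?_⟩
      rw [← cancel_mono (S.f.app (op n)), Category.assoc, Category.assoc, hwapp, ← Category.assoc l,
        hl, hx]
  obtain ⟨K', ι', s, _, hK's, hι'⟩ := exists_strict_sub (isMLAR_of_isARIso hwi h₁)
  let j := ι' ≫ kernel.ι v
  have hQ := isAdic_X₃ (shortExact_cokernel j) hK's hY
  let v' : cokernel j ⟶ S.X₃ := cokernel.desc j v (by simp [j])
  have hv' : ∀ n, (cokernel.π j).app (op n) ≫ v'.app (op n) = v.app (op n) := fun n => by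
    rw [← NatTrans.comp_app, cokernel.π_desc]
  refine ⟨k₃, cokernel j, v', hQ,
    (isARIso_iff v').2 ⟨r + 0 + s, fun n m h hle W k hk => ?_, fun n m h hle W p hp => ?_⟩⟩
  · have := epi_cokernel_app j (op m)
    obtain ⟨T, π, _, x, hx⟩ := surjective_up_to_refinements_of_epi ((cokernel.π j).app (op m)) k
    obtain ⟨l, hl⟩ := exists_factor_kernel v m x (by
      rw [← hv', ← Category.assoc, ← hx, Category.assoc, hk, comp_zero])
    obtain ⟨T', π', _, l', hl'⟩ := hι'.exists_lift h (by omega) l
    have hj : j.app (op n) ≫ (cokernel.π j).app (op n) = 0 := by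
      rw [← NatTrans.comp_app, cokernel.condition]; rfl
    rw [← cancel_epi π, ← cancel_epi π', comp_zero, comp_zero, ← Category.assoc π k, hx,
      Category.assoc x, ← tr_naturality, ← Category.assoc x, ← hl, Category.assoc l, ← tr_naturality]
    simp only [← Category.assoc] at hl' ⊢
    rw [hl']
    simp only [Category.assoc]
    rw [← Category.assoc ((ι').app (op n)), show ι'.app (op n) ≫ (kernel.ι v).app (op n) =
      j.app (op n) from rfl, hj, comp_zero]
  · exact hvc h (by omega) p (by rw [← hv', Category.assoc, hp, comp_zero])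

/-- The first term of a short exact sequence with uniformly Mittag-Leffler middle term and last
term adic up to translation is uniformly Mittag-Leffler. -/
lemma isMLAR_X₁ {S : ShortComplex (ARSys.PS C)} (hS : S.ShortExact)
    (k₂ : ARSys.TermKilled J S.X₂) (h₂ : ARSys.IsMLAR S.X₂) (h₃ : ARSys.IsARAdic J S.X₃) :
    ARSys.IsMLAR S.X₁ := by
  obtain ⟨-, Y, v, hY, hv⟩ := h₃
  obtain ⟨r, hvk, hvc⟩ := (isARIso_iff v).1 hv
  obtain ⟨X', ι, s, _, hX', hι⟩ := exists_strict_sub h₂
  have := hS.mono_f
  have := hS.epi_g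
  let g' := ι ≫ S.g
  have hg'c : CokNull g' (s + 0) := hι.comp (cokNull_of_epi S.g 0)
  have hfst : ARSys.IsARIso (pullback.fst g' v) :=
    (isARIso_iff _).2 ⟨r, hvk.pullback_fst, hvc.pullback_fst⟩
  obtain ⟨P', ιP, t, _, hP', hιP⟩ :=
    exists_strict_sub (isMLAR_of_isARIso hfst
      ((isMLAR_iff X').2 ⟨0, mlKills_of_isStrict hX'⟩))
  let q := ιP ≫ pullback.snd g' v
  have hqe : ∀ o, Epi (q.app o) := fun o =>
    epi_app_of_cokNull (hιP.comp hg'c.pullback_snd) (isStrict_of_isAdic hY) o.unop
  have : Epi q := NatTrans.epi_of_epi_app q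
  have kP : ARSys.TermKilled J P' :=
    termKilled_of_mono ιP (termKilled_pullback (termKilled_of_mono ι k₂) hY.1)
  have hK : ARSys.IsStrict (kernel q) := isStrict_X₁ (shortExact_kernel q) kP hP' hY
  have hθz : (kernel.ι q ≫ ιP ≫ pullback.fst g' v ≫ ι) ≫ S.g = 0 := by
    have : kernel.ι q ≫ ιP ≫ pullback.fst g' v ≫ g' = (kernel.ι q ≫ q) ≫ v := by
      rw [pullback.condition]; simp only [q, Category.assoc]
    rw [kernel.condition, zero_comp] at this
    simpa [g'] using this
  let θ : kernel q ⟶ S.X₁ := hS.exact.lift _ hθz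
  have hθ : θ ≫ S.f = _ := hS.exact.lift_f _ hθz
  refine isMLAR_of_strict (u := θ) (r := t + s) hK (cokNull_of_exists_lift fun n => ?_)
  have h1 : n + t ≤ n + (t + s) := by omega
  obtain ⟨T, π, _, z, hz⟩ := hι.exists_lift h1 (by omega) (S.f.app (op (n + (t + s))))
  rw [← tr_naturality] at hz
  obtain ⟨p, hp₁, hp₂⟩ := exists_pullback_lift_app (f := g') (g := v) (n + t) z 0 (by
    rw [zero_comp, NatTrans.comp_app, ← Category.assoc, ← hz, Category.assoc, Category.assoc,
      ← NatTrans.comp_app, S.zero]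
    simp)
  obtain ⟨T', π', _, l, hl⟩ := hιP.exists_lift (Nat.le_add_right n t) le_rfl p
  obtain ⟨m, hm⟩ := exists_factor_kernel q n l (by
    show l ≫ ιP.app (op n) ≫ (pullback.snd g' v).app (op n) = 0
    rw [← Category.assoc, ← hl, Category.assoc, Category.assoc, tr_naturality, ← Category.assoc p,
      hp₂, zero_comp, comp_zero])
  refine ⟨T', π' ≫ π, epi_comp _ _, m, ?_⟩
  have := (shortExact_app hS n).1
  rw [← cancel_mono (S.f.app (op n)), Category.assoc m, ← NatTrans.comp_app, hθ]
  simp only [NatTrans.comp_app]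
  rw [← Category.assoc m, hm, ← Category.assoc l, ← hl]
  simp only [Category.assoc]
  rw [reassoc_of% (tr_naturality (pullback.fst g' v) (Nat.le_add_right n t)), reassoc_of% hp₁,
    tr_naturality ι, ← reassoc_of% hz, ← tr_naturality S.f,
    tr_comp_assoc S.X₁ (Nat.le_add_right n t) h1]

end Groth.EtaleDeep.AR
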