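import Groth.Agent.EtaleDeep.AR.Core
import Mathlib.CategoryTheory.Abelian.Refinements
import Mathlib.CategoryTheory.Subobject.NoetherianObject
import Mathlib.CategoryTheory.Subobject.ArtinianObject

/-!
# Preimages of subobjects; Noetherian and Artinian objects in short exact sequences
-/

universe v u

open CategoryTheory CategoryTheory.Limits Opposite

namespace Groth.EtaleDeep.AR

variable {C : Type u} [Category.{v} C] [Abelian C] {X Y T : C}

/-- The preimage of a subobject. -/
noncomputable def pre (f : X ⟶ Y) (S : Subobject Y) : Subobject X :=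
  kernelSubobject (f ≫ cokernel.π S.arrow)

lemma factors_pre_iff (f : X ⟶ Y) (S : Subobject Y) (x : T ⟶ X) :
    (pre f S).Factors x ↔ S.Factors (x ≫ f) := by
  rw [pre, kernelSubobject_factors_iff, factors_iff_kills S, ← Category.assoc]
  refine ⟨fun h W p hp => ?_, fun h => h _ (cokernel.condition _)⟩
  obtain ⟨q, rfl⟩ : ∃ q, cokernel.π S.arrow ≫ q = p :=
    ⟨cokernel.desc S.arrow p hp, cokernel.π_desc _ _ _⟩
  rw [← Category.assoc, h, zero_comp]

lemma le_of_forall_factors {S S' : Subobject X}
    (h : ∀ ⦃T : C⦄ (x : T ⟶ X), S.Factors x → S'.Factors x) : S ≤ S' :=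
  Subobject.le_of_comm _ (Subobject.factorThru_arrow _ _ (h _ (Subobject.factors_self S)))

lemma factors_of_epi (π : T ⟶ X) {Z : C} (S : Subobject Z) (g : X ⟶ Z) [Epi π]
    (h : S.Factors (π ≫ g)) : S.Factors g := by
  rw [factors_iff_kills] at h ⊢
  intro W p hp
  rw [← cancel_epi π, ← Category.assoc, h p hp, comp_zero]

lemma pre_mono (f : X ⟶ Y) {S S' : Subobject Y} (h : S ≤ S') : pre f S ≤ pre f S' :=
  le_of_forall_factors fun T x hx => by
    rw [factors_pre_iff] at hx ⊢
    exact Subobject.factors_of_le _ h hx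

/-- The image of a subobject. -/
noncomputable def img (f : X ⟶ Y) (S : Subobject X) : Subobject Y :=
  imageSubobject (S.arrow ≫ f)

lemma img_factors {f : X ⟶ Y} {S : Subobject X} {x : T ⟶ X} (hx : S.Factors x) :
    (img f S).Factors (x ≫ f) := by
  rw [img, factors_imageSubobject_iff]
  intro W p hp
  rw [← Subobject.factorThru_arrow S x hx, Category.assoc, Category.assoc]
  rw [Category.assoc] at hp
  rw [hp, comp_zero]

lemma exists_of_img_factors {f : X ⟶ Y} {S : Subobject X} {y : T ⟶ Y}
    (hy : (img f S).Factors y) : ∃ (T' : C) (π : T' ⟶ T) (_ : Epi π) (x : T' ⟶ X),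
      S.Factors x ∧ π ≫ y = x ≫ f := by
  rw [img, factors_imageSubobject_iff] at hy
  obtain ⟨T', π, hπ, z, hz⟩ := exists_lift_of_kills _ y hy
  exact ⟨T', π, hπ, z ≫ S.arrow, Subobject.factors_comp_arrow z, by rw [hz, Category.assoc]⟩

lemma img_mono (f : X ⟶ Y) {S S' : Subobject X} (h : S ≤ S') : img f S ≤ img f S' :=
  le_of_forall_factors fun T y hy => by
    obtain ⟨T', π, _, x, hx, e⟩ := exists_of_img_factors hy
    exact factors_of_epi π _ _ (e ▸ img_factors (Subobject.factors_of_le _ h hx))

/-- A subobject of the middle term of an exact sequence is determined, among the ones containing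
it, by its traces on the outer terms. -/
lemma eq_of_pre_img_eq (S : ShortComplex C) (hS : S.Exact) {U V : Subobject S.X₂} (h : U ≤ V)
    (h₁ : pre S.f V ≤ pre S.f U) (h₂ : img S.g V ≤ img S.g U) : U = V := by
  refine le_antisymm h (le_of_forall_factors fun T x hx => ?_)
  obtain ⟨T', π, _, y, hy, e⟩ :=
    exists_of_img_factors (Subobject.factors_of_le _ h₂ (img_factors (f := S.g) hx))
  obtain ⟨T'', π', _, z, hz⟩ := hS.exact_up_to_refinements (π ≫ x - y)
    (by rw [Preadditive.sub_comp, Category.assoc, e, sub_self])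
  have hzV : V.Factors (z ≫ S.f) := by
    rw [← hz]
    exact Subobject.factors_of_factors_right _ (Subobject.factors_right_of_factors_add
      (y) (π ≫ x - y) (by rw [add_sub_cancel]; exact Subobject.factors_of_factors_right _ hx)
      (Subobject.factors_of_le _ h hy))
  have hzU : U.Factors (z ≫ S.f) :=
    (factors_pre_iff _ _ _).1 (Subobject.factors_of_le _ h₁ ((factors_pre_iff _ _ _).2 hzV))
  refine factors_of_epi π _ _ (factors_of_epi π' _ _ ?_)
  have e' : π' ≫ π ≫ x = z ≫ S.f + π' ≫ y := by rw [← hz, Preadditive.comp_sub, sub_add_cancel]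
  rw [e']
  exact Subobject.factors_add _ _ hzU (Subobject.factors_of_factors_right _ hy)

lemma isNoetherianObject_of_exact (S : ShortComplex C) (hS : S.Exact) (h₁ : IsNoetherianObject S.X₁)
    (h₃ : IsNoetherianObject S.X₃) : IsNoetherianObject S.X₂ := by
  rw [isNoetherianObject_iff_monotone_chain_condition]
  intro F
  obtain ⟨a, ha⟩ := monotone_chain_condition_of_isNoetherianObject
    (⟨fun i => pre S.f (F i), fun i j hij => pre_mono _ (F.monotone hij)⟩ :
      ℕ →o Subobject S.X₁)
  obtain ⟨b, hb⟩ := monotone_chain_condition_of_isNoetherianObject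
    (⟨fun i => img S.g (F i), fun i j hij => img_mono _ (F.monotone hij)⟩ :
      ℕ →o Subobject S.X₃)
  refine ⟨max a b, fun m hm => eq_of_pre_img_eq S hS (F.monotone hm) ?_ ?_⟩
  · exact le_of_eq ((ha m (le_of_max_le_left hm)).symm.trans (ha _ (le_max_left a b)))
  · exact le_of_eq ((hb m (le_of_max_le_right hm)).symm.trans (hb _ (le_max_right a b)))

lemma isArtinianObject_of_exact (S : ShortComplex C) (hS : S.Exact) (h₁ : IsArtinianObject S.X₁)
    (h₃ : IsArtinianObject S.X₃) : IsArtinianObject S.X₂ := by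
  rw [isArtinianObject_iff_antitone_chain_condition]
  intro F
  obtain ⟨a, ha⟩ := antitone_chain_condition_of_isArtinianObject
    (⟨fun i => OrderDual.toDual (pre S.f (OrderDual.ofDual (F i))),
      fun i j hij => pre_mono _ (F.monotone hij : OrderDual.ofDual (F j) ≤ OrderDual.ofDual (F i))⟩ :
      ℕ →o (Subobject S.X₁)ᵒᵈ)
  obtain ⟨b, hb⟩ := antitone_chain_condition_of_isArtinianObject
    (⟨fun i => OrderDual.toDual (img S.g (OrderDual.ofDual (F i))),
      fun i j hij => img_mono _ (F.monotone hij : OrderDual.ofDual (F j) ≤ OrderDual.ofDual (F i))⟩ :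
      ℕ →o (Subobject S.X₃)ᵒᵈ)
  refine ⟨max a b, fun m hm => (eq_of_pre_img_eq S hS (U := OrderDual.ofDual (F m))
    (V := OrderDual.ofDual (F (max a b))) (F.monotone hm) ?_ ?_).symm⟩
  · exact le_of_eq ((ha _ (le_max_left a b)).symm.trans (ha m (le_of_max_le_left hm)))
  · exact le_of_eq ((hb _ (le_max_right a b)).symm.trans (hb m (le_of_max_le_right hm)))

lemma eq_of_pre_eq (p : X ⟶ Y) [Epi p] {U V : Subobject Y} (h : pre p U = pre p V) : U = V := by
  have aux : ∀ {U V : Subobject Y}, pre p U = pre p V → U ≤ V := fun {U V} h =>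
    le_of_forall_factors fun T y hy => by
      obtain ⟨T', π, _, x, hx⟩ := surjective_up_to_refinements_of_epi p y
      refine factors_of_epi π _ _ ?_
      rw [hx, ← factors_pre_iff, ← h, factors_pre_iff, ← hx]
      exact Subobject.factors_of_factors_right _ hy
  exact le_antisymm (aux h) (aux h.symm)

lemma isNoetherianObject_of_epi (p : X ⟶ Y) [Epi p] (hX : IsNoetherianObject X) :
    IsNoetherianObject Y := by
  rw [isNoetherianObject_iff_monotone_chain_condition]
  intro F
  obtain ⟨a, ha⟩ := monotone_chain_condition_of_isNoetherianObject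
    (⟨fun i => pre p (F i), fun i j hij => pre_mono _ (F.monotone hij)⟩ : ℕ →o Subobject X)
  exact ⟨a, fun m hm => eq_of_pre_eq p (ha m hm)⟩

lemma isArtinianObject_of_epi (p : X ⟶ Y) [Epi p] (hX : IsArtinianObject X) :
    IsArtinianObject Y := by
  rw [isArtinianObject_iff_antitone_chain_condition]
  intro F
  obtain ⟨a, ha⟩ := antitone_chain_condition_of_isArtinianObject
    (⟨fun i => OrderDual.toDual (pre p (OrderDual.ofDual (F i))),
      fun i j hij => pre_mono _ (F.monotone hij : OrderDual.ofDual (F j) ≤ OrderDual.ofDual (F i))⟩ :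
      ℕ →o (Subobject X)ᵒᵈ)
  exact ⟨a, fun m hm => eq_of_pre_eq p (ha m hm)⟩

end Groth.EtaleDeep.AR
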