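import Groth.Agent.EtaleDeep.AR.Exact
import Groth.Agent.EtaleDeep.AR.Finiteness
import Mathlib.CategoryTheory.Functor.OfSequence
import Mathlib.RingTheory.Finiteness.Ideal

/-!
# Inverses up to translation and extensions of adic systems
-/

universe w v u

open CategoryTheory CategoryTheory.Limits Opposite

namespace Groth.EtaleDeep.AR

variable {C : Type u} [Category.{v} C] [Abelian C]

/-- An isomorphism up to translation has an inverse up to translation. -/
lemma exists_inverse {X Y : ARSys.PS C} (v : X ⟶ Y) (hv : ARSys.IsARIso v) :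
    ∃ (R : ℕ) (w : (ARSys.shift C R).obj Y ⟶ X),
      w ≫ v = tau Y R ∧ (ARSys.shift C R).map v ≫ w = tau X R := by
  obtain ⟨a, hk, hc⟩ := (isARIso_iff v).1 hv
  have h₁ : ∀ n, n + a ≤ n + (a + a) := fun n => by omega
  have h₂ : ∀ n, n ≤ n + a := fun n => by omega
  choose T π hπ x hx using fun n =>
    hc.exists_lift (h₁ n) (by omega : n + a + a ≤ n + (a + a)) (𝟙 (Y.obj (op (n + (a + a)))))
  simp only [Category.id_comp] at hx
  have hker : ∀ n, kernel.ι (π n) ≫ x n ≫ ARSys.tr X (h₂ n) = 0 := fun n => by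
    rw [← Category.assoc]
    exact hk (h₂ n) le_rfl _ (by rw [Category.assoc, ← hx, kernel.condition_assoc, zero_comp])
  let w : ∀ n : ℕ, Y.obj (op (n + (a + a))) ⟶ X.obj (op n) := fun n =>
    have := hπ n
    Abelian.epiDesc (π n) _ (hker n)
  have hw : ∀ n {W : C} (y : W ⟶ Y.obj (op (n + (a + a)))) (z : W ⟶ X.obj (op (n + a))),
      y ≫ ARSys.tr Y (h₁ n) = z ≫ v.app (op (n + a)) → y ≫ w n = z ≫ ARSys.tr X (h₂ n) := by
    intro n W y z hyz
    have := hπ n
    obtain ⟨W', e, _, b, hb⟩ := surjective_up_to_refinements_of_epi (π n) y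
    rw [← cancel_epi e, ← Category.assoc, hb, Category.assoc, Abelian.comp_epiDesc,
      ← Category.assoc, ← Category.assoc e, ← sub_eq_zero, ← Preadditive.sub_comp]
    refine hk (h₂ n) le_rfl _ ?_
    rw [Preadditive.sub_comp, Category.assoc, ← hx, Category.assoc, ← hyz, ← Category.assoc b, ← hb,
      Category.assoc, sub_self]
  have hnat : ∀ {n m : ℕ} (h : n ≤ m),
      ARSys.tr Y (Nat.add_le_add_right h (a + a)) ≫ w n = w m ≫ ARSys.tr X h := fun {n m} h => by
    have := hπ m
    rw [← cancel_epi (π m), ← Category.assoc, ← Category.assoc (π m) (w m), Abelian.comp_epiDesc,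
      hw n _ (x m ≫ ARSys.tr X (Nat.add_le_add_right h a)), Category.assoc, tr_comp, Category.assoc,
      tr_comp]
    rw [Category.assoc, tr_comp, Category.assoc, tr_naturality, ← Category.assoc, ← hx,
      Category.assoc, tr_comp]
  refine ⟨a + a,
    { app := fun o => w o.unop
      naturality := fun p q e => by
        obtain ⟨m⟩ := p; obtain ⟨n⟩ := q
        have hmn : n ≤ m := leOfHom e.unop
        rw [show e = (homOfLE hmn).op from Subsingleton.elim _ _]
        show ARSys.tr ((ARSys.shift C (a + a)).obj Y) hmn ≫ w n = w m ≫ ARSys.tr X hmn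
        rw [tr_shift]
        exact hnat hmn }, ?_, ?_⟩
  · ext ⟨n⟩
    show w n ≫ v.app (op n) = ARSys.tr Y _
    have := hπ n
    rw [← cancel_epi (π n), ← Category.assoc, Abelian.comp_epiDesc, Category.assoc, tr_naturality,
      ← Category.assoc, ← hx, Category.assoc, tr_comp]
  · ext ⟨n⟩
    show v.app (op (n + (a + a))) ≫ w n = ARSys.tr X _
    rw [hw n _ (ARSys.tr X (h₁ n)) (tr_naturality v (h₁ n)).symm, tr_comp]

variable {A : Type w} [CommRing A] [Linear A C] {J : Ideal A}

/-- The key extension statement: `0 ⟶ T ⟶ X ⟶ Y ⟶ Z ⟶ 0` with `T` null, `X` adic Artinian,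
`Z` adic and `Y` killed. -/
lemma isARAdic_of_fourTerm [IsNoetherianRing A] {T X Y Z : ARSys.PS C} (a : T ⟶ X) (b : X ⟶ Y)
    (c : Y ⟶ Z) [Mono a] [Epi c] (wab : a ≫ b = 0) (wbc : b ≫ c = 0)
    (hab : (ShortComplex.mk a b wab).Exact) (hbc : (ShortComplex.mk b c wbc).Exact)
    (hT : ARSys.IsARNull T) (hX : ARSys.IsAdicArt J X) (hY : ARSys.TermKilled J Y)
    (hZ : ARSys.IsAdic J Z) : ARSys.IsARAdic J Y := by
  have hXs := isStrict_of_isAdic hX.1
  have hZs := isStrict_of_isAdic hZ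
  have hbc' : ∀ n, (ShortComplex.mk (b.app (op n)) (c.app (op n))
      (by rw [← NatTrans.comp_app, wbc]; rfl)).Exact := fun n =>
    hbc.map ((evaluation ℕᵒᵖ C).obj (op n))
  have hce : ∀ n, Epi (c.app (op n)) := fun n => epi_app _ _
  have hdesc : ∀ (n : ℕ) {W : C} (h : Y.obj (op n) ⟶ W), b.app (op n) ≫ h = 0 →
      ∃ h', c.app (op n) ≫ h' = h := fun n {W} h hh => by
    have : Epi (ShortComplex.mk (b.app (op n)) (c.app (op n))
      (by rw [← NatTrans.comp_app, wbc]; rfl)).g := hce n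
    exact ⟨_, (hbc' n).g_desc h hh⟩
  -- `Y` is strict
  have hYs : ARSys.IsStrict Y := fun n m hnm => by
    refine Preadditive.epi_of_cancel_zero _ fun {W} h hh => ?_
    have := hXs n m hnm
    have := hZs n m hnm
    have := hce n
    have := hce m
    have hb : b.app (op n) ≫ h = 0 := by
      rw [← cancel_epi (ARSys.tr X hnm), comp_zero, ← Category.assoc, tr_naturality, Category.assoc,
        hh, comp_zero]
    obtain ⟨h', rfl⟩ := hdesc n h hb
    rw [← Category.assoc, tr_naturality, Category.assoc] at hh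
    rw [show h' = 0 from (cancel_epi (ARSys.tr Z hnm)).1
      ((cancel_epi (c.app (op m))).1 (by simpa using hh)), comp_zero]
  have hfg : ∀ n, (J ^ n).FG ∨ HasCoproducts.{w} C := fun n => Or.inl (IsNoetherian.noetherian _)
  choose Q q hq using fun n m : ℕ => exists_isQuot (hfg (n + 1)) (Y.obj (op m))
  have hα : ∀ n m (h : n ≤ m), ∃ α : X.obj (op n) ⟶ Q n m,
      ARSys.tr X h ≫ α = b.app (op m) ≫ q n m := fun n m h =>
    ((hX.1.2 n m h).2 _ _ (homKilledBy_pre _ _ (homKilledBy_of_killedBy_target _ (hq n m).1))).exists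
  choose α hα using hα
  have hd : ∀ n m m' (h : m ≤ m'), ∃ d : Q n m' ⟶ Q n m, q n m' ≫ d = ARSys.tr Y h ≫ q n m :=
    fun n m m' h => ((hq n m').2 _ _
      (homKilledBy_pre _ _ (homKilledBy_of_killedBy_target _ (hq n m).1))).exists
  choose d hd using hd
  have hαd : ∀ n m m' (h : n ≤ m) (h' : m ≤ m'), α n m' (h.trans h') ≫ d n m m' h' = α n m h := by
    intro n m m' h h'
    have := hXs n m' (h.trans h')
    rw [← cancel_epi (ARSys.tr X (h.trans h')), ← Category.assoc, hα, Category.assoc, hd,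
      ← Category.assoc (b.app (op m')), ← tr_naturality, Category.assoc, ← hα n m h, ← Category.assoc,
      tr_comp]
  -- stationarity
  have key : ∀ n, ∃ N, n ≤ N ∧ ∀ m (h : N ≤ m) {W : C} (k : W ⟶ Y.obj (op m)),
      k ≫ ARSys.tr Y h = 0 → InI (J ^ (n + 1)) k := by
    intro n
    have := hX.2 n
    obtain ⟨i, hi⟩ := antitone_chain_condition_of_isArtinianObject
      (⟨fun i => OrderDual.toDual (kernelSubobject (α n (n + i) (Nat.le_add_right n i))),
        monotone_nat_of_le_succ fun i => show kernelSubobject (α n (n + (i + 1)) _) ≤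
            kernelSubobject (α n (n + i) _) from le_of_forall_factors fun W x hx => by
          rw [kernelSubobject_factors_iff] at hx ⊢
          rw [← hαd n (n + i) (n + (i + 1)) (Nat.le_add_right n i) (by omega), ← Category.assoc, hx,
            zero_comp]⟩ : ℕ →o (Subobject (X.obj (op n)))ᵒᵈ)
    refine ⟨n + i, Nat.le_add_right n i, fun m h W k hk => ?_⟩
    obtain ⟨l, rfl⟩ : ∃ l, m = n + l := ⟨m - n, by omega⟩
    have := IsQuot.epi (hq n (n + l))
    have hnl := Nat.le_add_right n l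
    have := hce (n + l)
    have hz : InI (J ^ (n + 1)) (k ≫ c.app (op (n + l))) := by
      refine (IsQuot.inI (hZ.2 _ _ h) ?_).mono_ideal (pow_le_pow (by omega : n + 1 ≤ n + i + 1))
      rw [Category.assoc, ← tr_naturality, ← Category.assoc, hk, zero_comp]
    obtain ⟨ψ, hψ⟩ := hdesc (n + l) (q n (n + l) ≫ cokernel.π (α n (n + l) hnl)) (by
      rw [← Category.assoc, ← hα n (n + l) hnl, Category.assoc, cokernel.condition, comp_zero])
    have e0 : (k ≫ q n (n + l)) ≫ cokernel.π (α n (n + l) hnl) = 0 := by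
      rw [Category.assoc, ← hψ, ← Category.assoc]
      exact hz ψ (homKilledBy_of_epi _ ψ (by
        rw [hψ]; exact homKilledBy_comp _ _ (homKilledBy_of_killedBy_target _ (hq n _).1)))
    obtain ⟨W', π, _, x, hx⟩ := exists_lift_of_kills (α n (n + l) hnl) _ (fun V p hp => by
      obtain ⟨p', rfl⟩ : ∃ p', cokernel.π (α n (n + l) hnl) ≫ p' = p :=
        ⟨cokernel.desc _ p hp, cokernel.π_desc _ _ _⟩
      rw [← Category.assoc, e0, zero_comp])
    have hxi : x ≫ α n (n + i) (Nat.le_add_right n i) = 0 := by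
      rw [← hαd n (n + i) (n + l) (Nat.le_add_right n i) h, ← Category.assoc, ← hx, Category.assoc,
        Category.assoc, hd, ← Category.assoc k, hk, zero_comp, comp_zero]
    have hxl : x ≫ α n (n + l) hnl = 0 := by
      have e := hi l (by omega : i ≤ l)
      have := (kernelSubobject_factors_iff (α n (n + i) _) x).2 hxi
      exact (kernelSubobject_factors_iff _ x).1
        (by rw [← OrderDual.toDual_inj.1 e]; exact this)
    refine inI_of_epi π (IsQuot.inI (hq n (n + l)) ?_)
    rw [Category.assoc, hx, hxl]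
  choose N₀ hN₀ hstab₀ using key
  -- a monotone choice
  let N : ℕ → ℕ := fun n => Nat.rec (N₀ 0) (fun k r => max (N₀ (k + 1)) r) n
  have hN : ∀ n, N₀ n ≤ N n := fun n => by
    rcases n with _ | n
    · exact le_rfl
    · exact le_max_left _ _
  have hNn : ∀ n, n ≤ N n := fun n => (hN₀ n).trans (hN n)
  have hNs : ∀ n, N n ≤ N (n + 1) := fun n => le_max_right _ _
  have hstab : ∀ n m (h : N n ≤ m) {W : C} (k : W ⟶ Y.obj (op m)),
      k ≫ ARSys.tr Y h = 0 → InI (J ^ (n + 1)) k := fun n m h W k hk =>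
    hstab₀ n m ((hN n).trans h) k (by
      rw [← tr_comp Y (hN n) h, ← Category.assoc, hk, zero_comp])
  let q' : ∀ n, Y.obj (op (N n)) ⟶ Q n (N n) := fun n => q n (N n)
  have hq' : ∀ n, ARSys.IsQuot (J ^ (n + 1)) (q' n) := fun n => hq n (N n)
  have hqe : ∀ n, Epi (q' n) := fun n => IsQuot.epi (hq' n)
  have hδ : ∀ n, ∃ δ : Q (n + 1) (N (n + 1)) ⟶ Q n (N n),
      q' (n + 1) ≫ δ = ARSys.tr Y (hNs n) ≫ q' n := fun n =>
    ((hq' (n + 1)).2 _ _ (homKilledBy_anti (pow_le_pow (Nat.le_succ _))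
      (homKilledBy_pre _ _ (homKilledBy_of_killedBy_target _ (hq' n).1)))).exists
  choose δ hδ using hδ
  let Y' : ARSys.PS C := Functor.ofOpSequence (X := fun n => Q n (N n)) δ
  have hY' : ARSys.IsAdic J Y' := isAdic_of_succ (fun n => (hq' n).1) fun n => by
    show ARSys.IsQuot (J ^ (n + 1)) (Y'.map (homOfLE (Nat.le_succ n)).op)
    rw [Functor.ofOpSequence_map_homOfLE_succ]
    show ARSys.IsQuot (J ^ (n + 1)) (δ n)
    refine ⟨(hq' n).1, fun W φ hφ => ?_⟩
    have hqφ : ARSys.HomKilledBy (J ^ (n + 1)) (q' (n + 1) ≫ φ) := homKilledBy_pre _ _ hφ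
    have := hYs _ _ (hNs n)
    have hk0 := hstab n _ (hNs n) (kernel.ι (ARSys.tr Y (hNs n))) (kernel.condition _) _ hqφ
    let ψ := Abelian.epiDesc (ARSys.tr Y (hNs n)) _ hk0
    have hψ : ARSys.tr Y (hNs n) ≫ ψ = q' (n + 1) ≫ φ := Abelian.comp_epiDesc _ _ _
    obtain ⟨χ, hχ, hu⟩ := (hq' n).2 W ψ (homKilledBy_of_epi (ARSys.tr Y (hNs n)) ψ
      (by rw [hψ]; exact hqφ))
    refine ⟨χ, ?_, fun χ' hχ' => hu χ' ?_⟩
    · show δ n ≫ χ = φ
      rw [← cancel_epi (q' (n + 1)), ← Category.assoc, hδ, Category.assoc, hχ, hψ]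
    · show q' n ≫ χ' = ψ
      have hχ'' : δ n ≫ χ' = φ := hχ'
      rw [← cancel_epi (ARSys.tr Y (hNs n)), ← Category.assoc, ← hδ, Category.assoc, hχ'', hψ]
  have hu : ∀ n, ∃ u : Q n (N n) ⟶ Y.obj (op n), q' n ≫ u = ARSys.tr Y (hNn n) := fun n =>
    ((hq' n).2 _ _ (homKilledBy_of_killedBy_target _ (hY n))).exists
  choose u hu using hu
  let U : Y' ⟶ Y := NatTrans.ofOpSequence u fun n => by
    rw [Functor.ofOpSequence_map_homOfLE_succ]
    show δ n ≫ u n = u (n + 1) ≫ ARSys.tr Y (Nat.le_succ n)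
    rw [← cancel_epi (q' (n + 1)), ← Category.assoc, hδ, Category.assoc, hu,
      ← Category.assoc (q' (n + 1)), hu, tr_comp, tr_comp]
  have hA : ∀ n, ARSys.tr X (Nat.le_succ n) ≫ α n (N n) (hNn n) =
      α (n + 1) (N (n + 1)) (hNn (n + 1)) ≫ δ n := fun n => by
    have := hXs (n + 1) (N (n + 1)) (hNn (n + 1))
    rw [← cancel_epi (ARSys.tr X (hNn (n + 1))), ← Category.assoc, tr_comp, ← Category.assoc, hα,
      Category.assoc, hδ, ← Category.assoc (b.app (op (N (n + 1)))), ← tr_naturality, Category.assoc,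
      ← hα n (N n) (hNn n), ← Category.assoc, tr_comp]
  let A' : X ⟶ Y' := NatTrans.ofOpSequence (fun n => α n (N n) (hNn n)) fun n => by
    rw [Functor.ofOpSequence_map_homOfLE_succ]
    exact hA n
  let qY : ∀ n, Y.obj (op (N n)) ⟶ Y'.obj (op n) := q'
  have hqY : ∀ n, Epi (qY n) := hqe
  have hqK : ∀ n, ARSys.KilledBy (J ^ (n + 1)) (Y'.obj (op n)) := hY'.1
  have hqu : ∀ n, qY n ≫ U.app (op n) = ARSys.tr Y (hNn n) := hu
  have hqA : ∀ n, ARSys.tr X (hNn n) ≫ A'.app (op n) = b.app (op (N n)) ≫ qY n := fun n =>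
    hα n (N n) (hNn n)
  obtain ⟨r, hr⟩ := hT
  refine ⟨hY, Y', U, hY', (isARIso_iff U).2 ⟨r, fun n m h hle W k hk => ?_,
    cokNull_of_exists_lift fun n => ?_⟩⟩
  · -- the kernel: elements come from `T`
    obtain ⟨W₁, π₁, _, x, hx⟩ := surjective_up_to_refinements_of_epi (qY m) k
    have := hce (N m)
    have hz : InI (J ^ (m + 1)) (x ≫ c.app (op (N m))) := by
      refine IsQuot.inI (hZ.2 m (N m) (hNn m)) ?_
      rw [Category.assoc, ← tr_naturality, ← hqu m, ← Category.assoc, ← Category.assoc, ← hx,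
        Category.assoc π₁, hk, comp_zero, zero_comp]
    obtain ⟨ψ, hψ⟩ := hdesc (N m) (qY m ≫ cokernel.π (A'.app (op m))) (by
      rw [← Category.assoc, ← hqA, Category.assoc, cokernel.condition, comp_zero])
    have e0 : (x ≫ qY m) ≫ cokernel.π (A'.app (op m)) = 0 := by
      rw [Category.assoc, ← hψ, ← Category.assoc]
      exact hz ψ (homKilledBy_of_epi _ ψ (by
        rw [hψ]; exact homKilledBy_comp _ _ (homKilledBy_of_killedBy_target _ (hqK m))))
    obtain ⟨W₂, π₂, _, z, hzx⟩ := exists_lift_of_kills (A'.app (op m)) _ (fun V p hp => by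
      obtain ⟨p', rfl⟩ : ∃ p', cokernel.π (A'.app (op m)) ≫ p' = p :=
        ⟨cokernel.desc _ p hp, cokernel.π_desc _ _ _⟩
      rw [← Category.assoc, e0, zero_comp])
    have hαu : A'.app (op m) ≫ U.app (op m) = b.app (op m) := by
      have := hXs m (N m) (hNn m)
      rw [← cancel_epi (ARSys.tr X (hNn m)), ← Category.assoc, hqA, Category.assoc, hqu,
        tr_naturality]
    have hzb : z ≫ b.app (op m) = 0 := by
      rw [← hαu, ← Category.assoc, ← hzx, ← hx]
      simp [Category.assoc, hk]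
    have hab' : (ShortComplex.mk (a.app (op m)) (b.app (op m))
        (by rw [← NatTrans.comp_app, wab]; rfl)).Exact := hab.map ((evaluation ℕᵒᵖ C).obj (op m))
    obtain ⟨W₃, π₃, _, t, ht⟩ : ∃ (W₃ : C) (π₃ : W₃ ⟶ W₂) (_ : Epi π₃)
        (t : W₃ ⟶ T.obj (op m)), π₃ ≫ z = t ≫ a.app (op m) := hab'.exact_up_to_refinements z hzb
    have htr : ARSys.tr T h = 0 := by
      rw [← tr_comp T (Nat.le_add_right n r) hle,
        show ARSys.tr T (Nat.le_add_right n r) = 0 from hr n, comp_zero]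
    rw [← cancel_epi π₁, ← cancel_epi π₂, ← cancel_epi π₃, comp_zero, comp_zero, comp_zero]
    rw [reassoc_of% hx, ← Category.assoc x, ← Category.assoc π₂, hzx, Category.assoc,
      ← tr_naturality A' h, ← Category.assoc z, ← Category.assoc π₃, ← Category.assoc π₃, ht,
      Category.assoc t, ← tr_naturality, htr, zero_comp, comp_zero, zero_comp]
  · exact ⟨Y.obj (op (N (n + r))), ARSys.tr Y (hNn (n + r)), hYs _ _ _,
      qY (n + r) ≫ ARSys.tr Y' (Nat.le_add_right n r), by
        rw [Category.assoc, tr_naturality U, ← Category.assoc (qY (n + r)), hqu]⟩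

end Groth.EtaleDeep.AR
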