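import Groth.Agent.EtaleDeep.AR.Ext

/-!
# Extensions of systems that are adic up to translation
-/

universe w v u

open CategoryTheory CategoryTheory.Limits Opposite

namespace Groth.EtaleDeep.AR

variable {C : Type u} [Category.{v} C] [Abelian C]

/-- The components of a strict system mapping with null kernel are finite when those of the target
are. -/
lemma finite_app {P : C → Prop} (hsub : ∀ {a b : C} (f : a ⟶ b) [Mono f], P b → P a)
    (hquot : ∀ {a b : C} (f : a ⟶ b) [Epi f], P a → P b)
    (hext : ∀ S : ShortComplex C, S.Exact → P S.X₁ → P S.X₃ → P S.X₂)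
    (hzero : ∀ {a : C}, IsZero a → P a)
    {X Y : ARSys.PS C} (u : Y ⟶ X) {r : ℕ} (hu : KerNull u r) (hY : ARSys.IsStrict Y)
    (hX : ∀ n : ℕ, P (X.obj (op n))) (n : ℕ) : P (Y.obj (op n)) := by
  have := hY n (n + r) (Nat.le_add_right n r)
  -- `Y n` is a quotient of the image of `Y (n + r)` in `X (n + r)`
  have him : P (Abelian.image (u.app (op (n + r)))) := hsub (Abelian.image.ι _) (hX _)
  have hker : kernel.ι (Abelian.factorThruImage (u.app (op (n + r)))) ≫
      ARSys.tr Y (Nat.le_add_right n r) = 0 :=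
    hu _ le_rfl _ (Eq.trans (congrArg (kernel.ι _ ≫ ·) (Abelian.image.fac _).symm)
      (by rw [kernel.condition_assoc, zero_comp]))
  let f := Abelian.epiDesc (Abelian.factorThruImage (u.app (op (n + r)))) _ hker
  have : Epi f := epi_of_epi_fac (Abelian.comp_epiDesc _ _ hker)
  exact hquot f him

variable {A : Type w} [CommRing A] [IsNoetherianRing A] [Linear A C] {J : Ideal A}

/-- An extension of a system adic up to translation by one which is adic up to translation with
Artinian components is adic up to translation. -/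
lemma isARAdic_X₂ {S : ShortComplex (ARSys.PS C)} (hS : S.ShortExact)
    (k₂ : ARSys.TermKilled J S.X₂) (h₁ : ARSys.IsARAdicArt J S.X₁) (h₃ : ARSys.IsARAdic J S.X₃) :
    ARSys.IsARAdic J S.X₂ := by
  obtain ⟨⟨-, Y₁, u, hY₁, hu⟩, hart⟩ := h₁
  obtain ⟨-, Y₃, v, hY₃, hv⟩ := h₃
  obtain ⟨ru, huk, huc⟩ := (isARIso_iff u).1 hu
  obtain ⟨rv, hvk, hvc⟩ := (isARIso_iff v).1 hv
  have hY₁art : ARSys.IsAdicArt J Y₁ := ⟨hY₁, fun n =>
    finite_app (P := fun a => IsArtinianObject a)
      (fun {a b} f _ hb => @isArtinianObject_of_mono C _ a b f _ hb)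
      (fun f _ => isArtinianObject_of_epi f) (fun S hS => isArtinianObject_of_exact S hS)
      (fun {a} ha => isArtinianObject_of_isZero ha) u huk (isStrict_of_isAdic hY₁) hart n⟩
  have := hS.mono_f
  have := hS.epi_g
  -- pull the extension back to `Y₃`
  let P := pullback S.g v
  let j : S.X₁ ⟶ P := pullback.lift S.f 0 (by rw [S.zero, zero_comp])
  have hj₁ : j ≫ pullback.fst S.g v = S.f := pullback.lift_fst _ _ _
  have hj₂ : j ≫ pullback.snd S.g v = 0 := pullback.lift_snd _ _ _
  have : Mono j := mono_of_mono_fac hj₁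
  have kP : ARSys.TermKilled J P := termKilled_pullback k₂ hY₃.1
  have hker : ∀ n {T : C} (p : T ⟶ P.obj (op n)), p ≫ (pullback.snd S.g v).app (op n) = 0 →
      ∃ l : T ⟶ S.X₁.obj (op n), l ≫ j.app (op n) = p := fun n T p hp => by
    obtain ⟨l, hl⟩ := exists_factor_of_shortExact hS n (p ≫ (pullback.fst S.g v).app (op n)) (by
      rw [Category.assoc, ← NatTrans.comp_app, pullback.condition, NatTrans.comp_app,
        ← Category.assoc, hp, zero_comp])
    refine ⟨l, pullback_hom_ext_app n ?_ ?_⟩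
    · rw [Category.assoc, ← NatTrans.comp_app, hj₁, hl]
    · rw [Category.assoc, ← NatTrans.comp_app, hj₂, hp]
      exact comp_zero
  -- divide by the image of `Y₁`
  let b₀ := u ≫ j
  let π : cokernel b₀ ⟶ Y₃ := cokernel.desc b₀ (pullback.snd S.g v) (by simp [b₀, hj₂])
  have hπ : cokernel.π b₀ ≫ π = pullback.snd S.g v := cokernel.π_desc _ _ _
  have : Epi π := epi_of_epi_fac hπ
  have hπk : KerNull π ru := by
    intro n m h hle W k hk
    have := epi_cokernel_app b₀ (op m)
    obtain ⟨T, e, _, x, hx⟩ := surjective_up_to_refinements_of_epi ((cokernel.π b₀).app (op m)) k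
    obtain ⟨l, hl⟩ := hker m x (by
      rw [← hπ, NatTrans.comp_app, ← Category.assoc, ← hx, Category.assoc, hk, comp_zero])
    obtain ⟨T', e', _, y, hy⟩ := huc.exists_lift h hle l
    have hb : b₀.app (op n) ≫ (cokernel.π b₀).app (op n) = 0 := by
      rw [← NatTrans.comp_app, cokernel.condition]; rfl
    rw [← cancel_epi e, ← cancel_epi e', comp_zero, comp_zero, reassoc_of% hx, ← tr_naturality,
      ← reassoc_of% hl, ← reassoc_of% (tr_naturality j h), reassoc_of% hy,
      show u.app (op n) ≫ j.app (op n) ≫ (cokernel.π b₀).app (op n) = 0 from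
        (Category.assoc _ _ _).symm.trans hb, comp_zero]
  have hπi : ARSys.IsARIso π := (isARIso_iff π).2 ⟨ru, hπk, cokNull_of_epi π ru⟩
  obtain ⟨R, w, hw, -⟩ := exists_inverse π hπi
  obtain ⟨s, hs, -⟩ := existsUnique_factor hY₃ (termKilled_of_epi (cokernel.π b₀) kP) R w
  have hsπ : s ≫ π = 𝟙 Y₃ := by
    obtain ⟨g, -, hg⟩ := existsUnique_factor hY₃ hY₃.1 R (tau Y₃ R)
    rw [hg (s ≫ π) (by show tau Y₃ R = _; rw [← Category.assoc, ← hs, hw]),
      hg (𝟙 Y₃) (Category.comp_id _).symm]
  have : Mono s := mono_of_mono_fac hsπ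
  have hsc : CokNull s ru := cokNull_of_exists_lift fun n => by
    refine ⟨_, 𝟙 _, inferInstance,
      π.app (op (n + ru)) ≫ ARSys.tr Y₃ (Nat.le_add_right n ru), ?_⟩
    rw [Category.id_comp, Category.assoc, tr_naturality, ← Category.assoc,
      ← sub_eq_zero]
    conv_lhs => arg 1; rw [← Category.id_comp (ARSys.tr _ (Nat.le_add_right n ru))]
    rw [← Preadditive.sub_comp]
    refine hπk _ le_rfl _ ?_
    rw [Preadditive.sub_comp, Category.id_comp, Category.assoc, ← NatTrans.comp_app, hsπ]
    simp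
  -- the four term sequence
  let P' := pullback (cokernel.π b₀) s
  let b' : Y₁ ⟶ P' := pullback.lift b₀ 0 (by rw [cokernel.condition, zero_comp])
  have hb₁ : b' ≫ pullback.fst (cokernel.π b₀) s = b₀ := pullback.lift_fst _ _ _
  have hb₂ : b' ≫ pullback.snd (cokernel.π b₀) s = 0 := pullback.lift_snd _ _ _
  have kP' : ARSys.TermKilled J P' := termKilled_pullback kP hY₃.1
  have hkb : kernel.ι u ≫ b' = 0 := by
    refine pullback.hom_ext ?_ ?_
    · rw [Category.assoc, hb₁, zero_comp, kernel.condition_assoc, zero_comp]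
    · rw [Category.assoc, hb₂, zero_comp, comp_zero]
  have hab : (ShortComplex.mk (kernel.ι u) b' hkb).Exact := by
    rw [ShortComplex.exact_iff_exact_up_to_refinements]
    intro T x hx
    have hx' : x ≫ u = 0 := by
      have h' := congrArg (· ≫ pullback.fst (cokernel.π b₀) s) hx
      simp only [Category.assoc, zero_comp] at h'
      rw [hb₁, ← Category.assoc] at h'
      exact (cancel_mono j).1 (by rw [h', zero_comp])
    exact ⟨T, 𝟙 _, inferInstance, kernel.lift u x hx', by
      simp⟩
  have hbc : (ShortComplex.mk b' (pullback.snd (cokernel.π b₀) s) hb₂).Exact := by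
    rw [ShortComplex.exact_iff_exact_up_to_refinements]
    intro T x hx
    have hx' : (x ≫ pullback.fst (cokernel.π b₀) s) ≫ cokernel.π b₀ = 0 := by
      rw [Category.assoc, pullback.condition, ← Category.assoc, hx, zero_comp]
    obtain ⟨T', e, he, y, hy⟩ :=
      (ShortComplex.exact_of_g_is_cokernel (ShortComplex.mk b₀ (cokernel.π b₀) (cokernel.condition b₀))
        (cokernelIsCokernel b₀)).exact_up_to_refinements _ hx'
    refine ⟨T', e, he, y, pullback.hom_ext ?_ ?_⟩
    · rw [Category.assoc, Category.assoc, hb₁]; exact hy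
    · rw [Category.assoc, Category.assoc, hb₂, hx, comp_zero, comp_zero]
  obtain ⟨-, Y, U, hY, hU⟩ := isARAdic_of_fourTerm (kernel.ι u) b'
    (pullback.snd (cokernel.π b₀) s) hkb hb₂ hab hbc ((isARNull_kernel_iff u).2 ⟨ru, huk⟩)
    hY₁art kP' hY₃
  have hfst' : ARSys.IsARIso (pullback.fst (cokernel.π b₀) s) :=
    (isARIso_iff _).2 ⟨ru, (kerNull_of_mono s ru).pullback_fst, hsc.pullback_fst⟩
  have hfst : ARSys.IsARIso (pullback.fst S.g v) :=
    (isARIso_iff _).2 ⟨rv, hvk.pullback_fst, hvc.pullback_fst⟩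
  exact ⟨k₂, Y, U ≫ _ ≫ _, hY, isARIso_comp hU (isARIso_comp hfst' hfst)⟩

end Groth.EtaleDeep.AR
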