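import Groth.Agent.EtaleDeep.AR.Finiteness
import Mathlib.Order.WellQuasiOrder

/-!
# Subobjects of functors, componentwise; an ascending chain condition from well quasi orders
-/

universe v u w₁ w₂

open CategoryTheory CategoryTheory.Limits Opposite

namespace Groth.EtaleDeep.AR

/-- Monotone maps from a well quasi order to a poset with the ascending chain condition satisfy the
ascending chain condition. -/
lemma exists_stationary {P : Type w₁} {L : Type w₂} [Preorder P] [WellQuasiOrderedLE P]
    [PartialOrder L] [WellFoundedGT L] (f : ℕ → P → L) (hi : Monotone f)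
    (hd : ∀ i, Monotone (f i)) : ∃ i₀, ∀ i, i₀ ≤ i → f i = f i₀ := by
  by_contra h
  push Not at h
  have step : ∀ i₀, ∃ i, i₀ < i ∧ ∃ d, f i₀ d < f i d := fun i₀ => by
    obtain ⟨i, hle, hne⟩ := h i₀
    obtain ⟨d, hd'⟩ := Function.ne_iff.1 hne
    refine ⟨i, lt_of_le_of_ne hle ?_, d, lt_of_le_of_ne (hi hle d) (Ne.symm hd')⟩
    rintro rfl; exact hd' rfl
  choose next hnext d hlt using step
  let g : ℕ → ℕ := fun k => next^[k] 0
  have hg : ∀ k, g (k + 1) = next (g k) := fun k => Function.iterate_succ_apply' next k 0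
  have hgm : StrictMono g := strictMono_nat_of_lt_succ fun k => by rw [hg]; exact hnext _
  obtain ⟨φ, hφ⟩ := wellQuasiOrdered_iff_exists_monotone_subseq.1
    (wellQuasiOrdered_le (α := P)) (fun k => d (g k))
  refine not_strictMono_of_wellFoundedGT (fun k => f (g (φ k)) (d (g (φ k)))) (strictMono_nat_of_lt_succ fun k => ?_)
  refine lt_of_lt_of_le (hlt (g (φ k))) ?_
  rw [← hg]
  exact le_trans (hi (hgm.monotone (φ.strictMono (Nat.lt_succ_self k))) _)
    (hd _ (hφ k (k + 1) (Nat.le_succ k)))

variable {C : Type u} [Category.{v} C] [Abelian C] {K : Type w₁} [Category.{w₂} K] {F : K ⥤ C}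

/-- The component at `j` of a subobject of a functor. -/
noncomputable def subApp (S : Subobject F) (j : K) : Subobject (F.obj j) :=
  imageSubobject (S.arrow.app j)

lemma subApp_kills_iff (S : Subobject F) (j : K) {W : C} (h : F.obj j ⟶ W) :
    (subApp S j).arrow ≫ h = 0 ↔ S.arrow.app j ≫ h = 0 :=
  imageSubobject_kills_iff _ _

lemma sub_le_iff (S T : Subobject F) : S ≤ T ↔ ∀ j, subApp S j ≤ subApp T j := by
  constructor
  · intro h j
    rw [subApp, subApp, imageSubobject_le_iff]
    intro W p hp
    rw [← Subobject.ofLE_arrow h, NatTrans.comp_app, Category.assoc, hp, comp_zero]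
  · intro h
    have h0 : S.arrow ≫ cokernel.π T.arrow = 0 := by
      ext j
      show S.arrow.app j ≫ (cokernel.π T.arrow).app j = 0
      exact (subApp_kills_iff S j _).1 ((le_iff_kills _ _).1 (h j) _
        ((subApp_kills_iff T j _).2 (by rw [← NatTrans.comp_app, cokernel.condition]; rfl)))
    exact Subobject.le_of_comm _ (Abelian.monoLift_comp T.arrow _ h0)

lemma subApp_mono {S T : Subobject F} (h : S ≤ T) (j : K) : subApp S j ≤ subApp T j :=
  (sub_le_iff S T).1 h j

lemma sub_eq_of_subApp_eq {S T : Subobject F} (h : ∀ j, subApp S j = subApp T j) : S = T :=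
  le_antisymm ((sub_le_iff S T).2 fun j => (h j).le) ((sub_le_iff T S).2 fun j => (h j).ge)

lemma subApp_top (j : K) : subApp (⊤ : Subobject F) j = ⊤ := by
  have : IsIso ((⊤ : Subobject F).arrow.app j) := inferInstance
  refine top_unique (le_of_forall_factors fun T x _ => ?_)
  rw [subApp, factors_imageSubobject_iff]
  intro W h hh
  rw [(cancel_epi ((⊤ : Subobject F).arrow.app j)).1 (hh.trans comp_zero.symm), comp_zero]

/-- Elements of a component move along the functor. -/
lemma subApp_factors_map (S : Subobject F) {i j : K} (g : i ⟶ j) {T : C} (x : T ⟶ F.obj i)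
    (hx : (subApp S i).Factors x) : (subApp S j).Factors (x ≫ F.map g) := by
  rw [subApp, factors_imageSubobject_iff] at hx ⊢
  intro W h hh
  rw [Category.assoc]
  refine hx _ ?_
  rw [← Category.assoc, ← S.arrow.naturality g, Category.assoc, hh, comp_zero]

end Groth.EtaleDeep.AR
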