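import Groth.Agent.EtaleDeep.AR.Adic
import Groth.Agent.EtaleDeep.AR.FunctorSub
import Mathlib.Algebra.Order.Group.PiLex
import Mathlib.RingTheory.Ideal.Operations
import Mathlib.RingTheory.Noetherian.Basic
import Mathlib.Algebra.Order.Antidiag.Pi

/-!
# The strict graded object of an adic system is Noetherian

A Gröbner-basis style proof: graded submodules are determined by their subobjects of leading
coefficients in `X₀`, indexed by monomials.
-/

universe w v u

open CategoryTheory CategoryTheory.Limits Opposite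

namespace Groth.EtaleDeep.AR

variable {C : Type u} [Category.{v} C] [Abelian C]

/-- Elements of a join are locally sums. -/
lemma exists_of_sup_factors {X T : C} {S S' : Subobject X} {x : T ⟶ X} (h : (S ⊔ S').Factors x) :
    ∃ (T' : C) (π : T' ⟶ T) (_ : Epi π) (y z : T' ⟶ X),
      S.Factors y ∧ S'.Factors z ∧ π ≫ x = y + z := by
  obtain ⟨T', π, hπ, l, hl⟩ := exists_lift_of_kills (biprod.desc S.arrow S'.arrow) x fun W p hp => by
    have h₁ : S.arrow ≫ p = 0 := by
      have := congrArg (biprod.inl ≫ ·) hp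
      simpa using this
    have h₂ : S'.arrow ≫ p = 0 := by
      have := congrArg (biprod.inr ≫ ·) hp
      simpa using this
    exact (kernelSubobject_factors_iff p x).1
      (Subobject.factors_of_le _ (sup_le (le_kernelSubobject _ _ h₁) (le_kernelSubobject _ _ h₂)) h)
  refine ⟨T', π, hπ, (l ≫ biprod.fst) ≫ S.arrow, (l ≫ biprod.snd) ≫ S'.arrow,
    Subobject.factors_comp_arrow _, Subobject.factors_comp_arrow _, ?_⟩
  rw [hl, biprod.desc_eq]
  simp [Category.assoc]

lemma factors_sup_left {X T : C} {S S' : Subobject X} {x : T ⟶ X} (h : S.Factors x) :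
    (S ⊔ S').Factors x := Subobject.factors_of_le _ le_sup_left h

lemma factors_sup_right {X T : C} {S S' : Subobject X} {x : T ⟶ X} (h : S'.Factors x) :
    (S ⊔ S').Factors x := Subobject.factors_of_le _ le_sup_right h

lemma factors_sub {X T : C} {S : Subobject X} {x y : T ⟶ X} (hx : S.Factors x) (hy : S.Factors y) :
    S.Factors (x - y) := by
  refine Subobject.factors_left_of_factors_add (x - y) y ?_ hy
  rwa [sub_add_cancel]

/-- The join of the images of a finite family. -/
noncomputable def supImg {ι : Type*} {Z X : C} (ψ : ι → (Z ⟶ X)) (s : Finset ι) : Subobject X :=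
  s.sup fun i => imageSubobject (ψ i)

lemma supImg_le_iff {ι : Type*} {Z X : C} (ψ : ι → (Z ⟶ X)) (s : Finset ι) (U : Subobject X) :
    supImg ψ s ≤ U ↔ ∀ i ∈ s, imageSubobject (ψ i) ≤ U := Finset.sup_le_iff

lemma supImg_kills {ι : Type*} {Z X : C} (ψ : ι → (Z ⟶ X)) (s : Finset ι) {W : C} {h : X ⟶ W}
    (hh : ∀ i ∈ s, ψ i ≫ h = 0) : (supImg ψ s).arrow ≫ h = 0 := by
  have : supImg ψ s ≤ kernelSubobject h := (supImg_le_iff ψ s _).2 fun i hi =>
    le_kernelSubobject _ _ ((imageSubobject_kills_iff _ _).2 (hh i hi))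
  rw [← Subobject.ofLE_arrow this, Category.assoc, kernelSubobject_arrow_comp, comp_zero]

/-- Subobjects are determined by their leading coefficients. -/
lemma le_of_leading {ι : Type*} [LinearOrder ι] {Z X : C} (ψ : ι → (Z ⟶ X)) (s : Finset ι)
    {M M' : Subobject X} (hMM : M ≤ M') (hs : M' ≤ M ⊔ supImg ψ s)
    (h : ∀ d ∈ s, pre (ψ d) (M' ⊔ supImg ψ (s.filter (· < d))) ≤
      pre (ψ d) (M ⊔ supImg ψ (s.filter (· < d)))) : M' ≤ M := by
  induction s using Finset.induction_on_max with
  | empty =>
    simpa [supImg] using hs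
  | insert d t hlt ih =>
    have hd : d ∉ t := fun hd => lt_irrefl d (hlt d hd)
    have hfd : (insert d t).filter (· < d) = t := by
      ext e
      simp only [Finset.mem_filter, Finset.mem_insert]
      exact ⟨fun ⟨h₁, h₂⟩ => h₁.resolve_left h₂.ne, fun he => ⟨Or.inr he, hlt e he⟩⟩
    refine ih ?_ fun e he => ?_
    · refine le_of_forall_factors fun T x hx => ?_
      have hx' : ((M ⊔ supImg ψ t) ⊔ imageSubobject (ψ d)).Factors x := by
        refine Subobject.factors_of_le _ ?_ hx
        refine hs.trans ?_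
        rw [supImg, Finset.sup_insert, sup_assoc]
        exact sup_le_sup_left (le_of_eq (sup_comm _ _)) _
      obtain ⟨T', π, _, y, z, hy, hz, e⟩ := exists_of_sup_factors hx'
      obtain ⟨T'', π', _, c, hc⟩ :=
        exists_lift_of_kills (ψ d) z ((factors_imageSubobject_iff _ _).1 hz)
      have h1 : (M' ⊔ supImg ψ t).Factors (c ≫ ψ d) := by
        rw [← hc, show z = π ≫ x - y by rw [e, add_sub_cancel_left], Preadditive.comp_sub]
        exact factors_sub
          (factors_sup_left (Subobject.factors_of_factors_right _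
            (Subobject.factors_of_factors_right _ hx)))
          (Subobject.factors_of_le _ (sup_le_sup_right hMM _)
            (Subobject.factors_of_factors_right _ hy))
      have h2 : (M ⊔ supImg ψ t).Factors (c ≫ ψ d) := by
        have := h d (Finset.mem_insert_self d t)
        rw [hfd] at this
        exact (factors_pre_iff _ _ _).1
          (Subobject.factors_of_le _ this ((factors_pre_iff _ _ _).2 h1))
      refine factors_of_epi π _ _ (factors_of_epi π' _ _ ?_)
      rw [e, Preadditive.comp_add, hc]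
      exact Subobject.factors_add _ _ (Subobject.factors_of_factors_right _ hy) h2
    · have hfe : (insert d t).filter (· < e) = t.filter (· < e) := by
        rw [Finset.filter_insert, if_neg (not_lt.2 (hlt e he).le)]
      have := h e (Finset.mem_insert_of_mem he)
      rwa [hfe] at this

variable {A : Type w} [CommRing A] [Linear A C] {J : Ideal A}

variable {X : ARSys.PS C} (hX : ARSys.IsAdic J X)

include hX in
lemma exists_mul {q p n : ℕ} (hn : p + q = n) (h : q ≤ n) {b : A} (hb : b ∈ J ^ p) :
    ∃ μ : X.obj (op q) ⟶ X.obj (op n), ARSys.tr X h ≫ μ = b • 𝟙 (X.obj (op n)) := by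
  have := isStrict_of_isAdic hX q n h
  refine ⟨Abelian.epiDesc (ARSys.tr X h) (b • 𝟙 _) ?_, Abelian.comp_epiDesc _ _ _⟩
  rw [Linear.comp_smul, Category.comp_id]
  exact ((IsQuot.inI (hX.2 q n h) (kernel.condition _)).smul hb).eq_zero
    (killedBy_anti (by rw [← pow_add]; exact pow_le_pow (by omega)) (hX.1 n))

include hX in
/-- Multiplication by `b` maps `F^q (X_q)`-lifts: it is induced on `X_q`. -/
lemma mul_mem_of_isGrSub {q p : ℕ} {b : A} (hb : b ∈ J ^ p)
    {M : (q : ℕ) → Subobject (X.obj (op q))} (hM : ARSys.IsGrSub J X M)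
    (μ : X.obj (op q) ⟶ X.obj (op (p + q)))
    (hμ : ARSys.tr X (Nat.le_add_left q p) ≫ μ = b • 𝟙 _) {T : C} {x : T ⟶ X.obj (op q)}
    (hx : (M q).Factors x) : (M (p + q)).Factors (x ≫ μ) := by
  have := isStrict_of_isAdic hX q (p + q) (Nat.le_add_left q p)
  obtain ⟨T', π, _, y, hy⟩ :=
    surjective_up_to_refinements_of_epi (ARSys.tr X (Nat.le_add_left q p)) x
  have hyP := Subobject.isPullback (ARSys.tr X (Nat.le_add_left q p)) (M q)
  have hw : (M q).factorThru (π ≫ x) (Subobject.factors_of_factors_right _ hx) ≫ (M q).arrow =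
      y ≫ ARSys.tr X (Nat.le_add_left q p) := by rw [Subobject.factorThru_arrow, hy]
  refine factors_of_epi π _ _ ?_
  rw [← Category.assoc, hy, Category.assoc, hμ]
  refine Subobject.factors_of_le _ (hM.2 p q b hb) ?_
  rw [← hyP.lift_snd _ y hw, Category.assoc,
    factors_imageSubobject_iff]
  intro W φ hφ
  rw [Category.assoc, hφ, comp_zero]

section

variable {k : ℕ} (a : Fin k → A)

/-- The monomial with exponent `d` in the generators. -/
def mon (d : Fin k → ℕ) : A := ∏ i, a i ^ d i

lemma mon_add (d e : Fin k → ℕ) : mon a (d + e) = mon a d * mon a e := by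
  simp [mon, pow_add, Finset.prod_mul_distrib]

/-- Total degree. -/
def deg (d : Fin k → ℕ) : ℕ := ∑ i, d i

lemma deg_add (d e : Fin k → ℕ) : deg (d + e) = deg d + deg e := Finset.sum_add_distrib

variable (ha : Ideal.span (Set.range a) = J)

include ha in
lemma mon_mem (d : Fin k → ℕ) : mon a d ∈ J ^ deg d := by
  rw [deg, ← Finset.prod_pow_eq_pow_sum]
  exact Ideal.prod_mem_prod fun i _ => Ideal.pow_mem_pow (ha ▸ Ideal.subset_span ⟨i, rfl⟩) _

include ha in
lemma pow_le_span_mon (q : ℕ) : J ^ q ≤ Ideal.span {b | ∃ d, deg d = q ∧ mon a d = b} := by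
  induction q with
  | zero =>
    rw [pow_zero, Ideal.one_eq_top, top_le_iff, Ideal.eq_top_iff_one]
    exact Ideal.subset_span ⟨0, by simp [deg], by simp [mon]⟩
  | succ q ih =>
    rw [pow_succ]
    refine (Ideal.mul_mono ih ha.ge).trans ?_
    rw [Ideal.span_mul_span', Ideal.span_le]
    rintro _ ⟨_, ⟨d, hd, rfl⟩, _, ⟨i, rfl⟩, rfl⟩
    refine Ideal.subset_span ⟨d + Pi.single i 1, ?_, ?_⟩
    · rw [deg_add, hd]; simp [deg]
    · rw [mon_add]
      congr 1
      simp only [mon]
      rw [Finset.prod_eq_single i (fun j _ hj => by simp [hj]) (by simp)]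
      simp

lemma mons_exists (q : ℕ) : ∃ s : Finset (Lex (Fin k → ℕ)), ∀ d, d ∈ s ↔ deg (ofLex d) = q := by
  refine ⟨((Finset.univ : Finset (Fin k)).piAntidiag q).map (toLex (α := Fin k → ℕ)).toEmbedding,
    fun d => ?_⟩
  simp only [Finset.mem_map, Equiv.coe_toEmbedding, Finset.mem_piAntidiag]
  exact ⟨fun ⟨e, he, h⟩ => by subst h; exact he.1, fun h => ⟨ofLex d, ⟨h, by simp⟩, by simp⟩⟩

/-- Monomials of degree `q`. -/
noncomputable def mons (q : ℕ) : Finset (Lex (Fin k → ℕ)) := (mons_exists q).choose

lemma mem_mons {q : ℕ} {d : Lex (Fin k → ℕ)} : d ∈ mons q ↔ deg (ofLex d) = q :=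
  (mons_exists q).choose_spec d

include hX ha in
/-- Every `F^q (X_q)` is spanned by the images of the monomials. -/
lemma fsub_le_supImg {q : ℕ} (ψ : Lex (Fin k → ℕ) → (X.obj (op 0) ⟶ X.obj (op q)))
    (hψ : ∀ d ∈ mons q, ARSys.tr X (Nat.zero_le q) ≫ ψ d = mon a (ofLex d) • 𝟙 _) :
    ARSys.Fsub X q q ≤ supImg ψ (mons q) := by
  rw [le_iff_kills]
  intro W φ hφ
  refine inI_of_inF hX ((fsub_factors_iff X q q _).1 (Subobject.factors_self _)) φ fun b hb => ?_
  let K : Ideal A :=
    { carrier := {c | c • φ = 0}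
      add_mem' := fun {x y} hx hy => by simp_all [add_smul]
      zero_mem' := by simp
      smul_mem' := fun c x hx => by simp_all [mul_smul] }
  have : J ^ q ≤ K := by
    refine (pow_le_span_mon a ha q).trans (Ideal.span_le.2 ?_)
    rintro _ ⟨d, hd, rfl⟩
    show mon a d • φ = 0
    have hd' : toLex d ∈ mons q := mem_mons.2 hd
    have h0 : ψ (toLex d) ≫ φ = 0 := by
      have hle : imageSubobject (ψ (toLex d)) ≤ supImg ψ (mons q) := by
        rw [supImg]; exact Finset.le_sup (f := fun i => imageSubobject (ψ i)) hd'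
      exact (imageSubobject_kills_iff _ _).1 ((le_iff_kills _ _).1 hle φ hφ)
    have e := congrArg (· ≫ φ) (hψ _ hd')
    simp only [Category.assoc, h0, comp_zero, Linear.smul_comp, Category.id_comp] at e
    simpa using e.symm
  exact this hb

end

variable [IsNoetherianRing A]

include hX in
/-- The graded object of an adic system with Noetherian zeroth term has the ascending chain
condition on graded subobjects. -/
lemma isGrSub_chain_stationary (h0 : IsNoetherianObject (X.obj (op 0)))
    (M : ℕ → (q : ℕ) → Subobject (X.obj (op q))) (hM : ∀ i : ℕ, ARSys.IsGrSub J X (M i))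
    (hmono : Monotone M) : ∃ i₀ : ℕ, ∀ i : ℕ, i₀ ≤ i → M i = M i₀ := by
  classical
  obtain ⟨k, a, ha⟩ := Submodule.fg_iff_exists_fin_generating_family.1
    (IsNoetherian.noetherian J)
  have ha' : Ideal.span (Set.range a) = J := ha
  have hex : ∀ (q : ℕ) (d : Lex (Fin k → ℕ)), ∃ ψ : X.obj (op 0) ⟶ X.obj (op q),
      deg (ofLex d) = q → ARSys.tr X (Nat.zero_le q) ≫ ψ = mon a (ofLex d) • 𝟙 _ := fun q d => by
    by_cases h : deg (ofLex d) = q
    · obtain ⟨μ, hμ⟩ := exists_mul hX (q := 0) (p := q) (n := q) rfl (Nat.zero_le q)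
        (b := mon a (ofLex d)) (h ▸ mon_mem a ha' _)
      exact ⟨μ, fun _ => hμ⟩
    · exact ⟨0, fun h' => absurd h' h⟩
  choose ψ hψ using hex
  let L : ℕ → (Fin k → ℕ) → Subobject (X.obj (op 0)) := fun i d =>
    pre (ψ (deg d) (toLex d))
      (M i (deg d) ⊔ supImg (ψ (deg d)) ((mons (deg d)).filter (· < toLex d)))
  have hL₁ : Monotone L := fun i j h d => pre_mono _ (sup_le_sup_right (hmono h _) _)
  have hL₂ : ∀ i, Monotone (L i) := by
    intro i d d' hdd'
    obtain ⟨e, rfl⟩ : ∃ e, d' = e + d := ⟨d' - d, by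
      funext j
      simp only [Pi.add_apply, Pi.sub_apply]
      exact (Nat.sub_add_cancel (hdd' j)).symm⟩
    refine le_of_forall_factors fun T x hx => ?_
    simp only [L] at hx ⊢
    rw [factors_pre_iff] at hx ⊢
    have key : ∀ n (hn : deg e + deg d = n),
        (M i n ⊔ supImg (ψ n) ((mons n).filter (· < toLex (e + d)))).Factors
          (x ≫ ψ n (toLex (e + d))) := by
      intro n hn
      subst hn
      obtain ⟨μ, hμ⟩ := exists_mul hX (q := deg d) (p := deg e) rfl (Nat.le_add_left _ _)
        (b := mon a e) (mon_mem a ha' e)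
      have comp : ∀ c : Fin k → ℕ, deg c = deg d →
          ψ (deg d) (toLex c) ≫ μ = ψ (deg e + deg d) (toLex (e + c)) := by
        intro c hc
        have := isStrict_of_isAdic hX 0 (deg e + deg d) (Nat.zero_le _)
        rw [← cancel_epi (ARSys.tr X (Nat.zero_le (deg e + deg d))),
          hψ _ (toLex (e + c)) (by simp [deg_add, hc]),
          ← tr_comp X (Nat.zero_le (deg d)) (Nat.le_add_left (deg d) (deg e)), Category.assoc,
          ← Category.assoc (ARSys.tr X (Nat.zero_le (deg d))), hψ _ (toLex c) (by simpa using hc),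
          Linear.smul_comp, Category.id_comp, Linear.comp_smul, hμ, smul_smul, ofLex_toLex,
          ofLex_toLex, mon_add, mul_comm (mon a e)]
      rw [← comp d rfl, ← Category.assoc]
      rw [factors_iff_kills]
      intro W h hh
      have hM' : (M i (deg e + deg d)).arrow ≫ h = 0 := by
        rw [← Subobject.ofLE_arrow (le_sup_left : M i (deg e + deg d) ≤ _), Category.assoc, hh,
          comp_zero]
      have hG : (supImg (ψ (deg e + deg d)) ((mons (deg e + deg d)).filter
          (· < toLex (e + d)))).arrow ≫ h = 0 := by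
        rw [← Subobject.ofLE_arrow (le_sup_right :
          supImg (ψ (deg e + deg d)) _ ≤ _), Category.assoc, hh, comp_zero]
      rw [Category.assoc]
      refine (factors_iff_kills _ _).1 hx (μ ≫ h) ?_
      have hle : M i (deg d) ⊔ supImg (ψ (deg d)) ((mons (deg d)).filter (· < toLex d)) ≤
          kernelSubobject (μ ≫ h) := by
        refine sup_le (le_kernelSubobject _ _ ?_) (le_kernelSubobject _ _ (supImg_kills _ _ ?_))
        · rw [← Category.assoc]
          exact (factors_iff_kills _ _).1
            (mul_mem_of_isGrSub hX (mon_mem a ha' e) (hM i) μ hμ (Subobject.factors_self _)) h hM'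
        · intro c hc
          obtain ⟨hc₁, hc₂⟩ := Finset.mem_filter.1 hc
          have hcd : deg (ofLex c) = deg d := mem_mons.1 hc₁
          rw [← Category.assoc, ← toLex_ofLex c, comp _ hcd]
          have hmem : toLex (e + ofLex c) ∈
              (mons (deg e + deg d)).filter (· < toLex (e + d)) := by
            refine Finset.mem_filter.2 ⟨mem_mons.2 (by simp [deg_add, hcd]), ?_⟩
            show toLex e + c < toLex e + toLex d
            exact add_lt_add_right hc₂ _
          exact (imageSubobject_kills_iff _ _).1 ((le_iff_kills _ _).1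
            (Finset.le_sup (f := fun j => imageSubobject (ψ (deg e + deg d) j)) hmem) h hG)
      rw [← Subobject.ofLE_arrow hle, Category.assoc, kernelSubobject_arrow_comp, comp_zero]
    exact key _ (deg_add e d).symm
  obtain ⟨i₀, hi₀⟩ := exists_stationary L hL₁ hL₂
  refine ⟨i₀, fun i hi => funext fun q => le_antisymm ?_ (hmono hi q)⟩
  refine le_of_leading (ψ q) (mons q) (hmono hi q) ?_ fun d hd => ?_
  · exact le_sup_of_le_right (((hM i).1 q).trans
      (fsub_le_supImg hX a ha' (ψ q) fun d hd => hψ q d (mem_mons.1 hd)))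
  · have hq := mem_mons.1 hd
    subst hq
    have := (congrFun (hi₀ i hi) (ofLex d)).le
    simp only [L, toLex_ofLex] at this
    convert this <;> rfl

include hX in
/-- All terms of an adic system are as finite as the zeroth one. -/
lemma finite_of_isAdic {P : C → Prop} (hsub : ∀ {a b : C} (f : a ⟶ b) [Mono f], P b → P a)
    (hquot : ∀ {a b : C} (f : a ⟶ b) [Epi f], P a → P b)
    (hext : ∀ S : ShortComplex C, S.Exact → P S.X₁ → P S.X₃ → P S.X₂)
    (hzero : ∀ {a : C}, IsZero a → P a) (h0 : P (X.obj (op 0))) (n : ℕ) :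
    P (X.obj (op n)) := by
  induction n with
  | zero => exact h0
  | succ n ih =>
    refine hext (ShortComplex.mk (kernel.ι (ARSys.tr X (Nat.le_succ n))) _ (kernel.condition _))
      (ShortComplex.exact_of_f_is_kernel _ (kernelIsKernel _)) ?_ ih
    obtain ⟨s, hs⟩ := IsNoetherian.noetherian (J ^ (n + 1))
    have hs' : Ideal.span (s : Set A) = J ^ (n + 1) := hs
    have hμ : ∀ b ∈ s, ∃ μ : X.obj (op 0) ⟶ X.obj (op (n + 1)),
        ARSys.tr X (Nat.zero_le (n + 1)) ≫ μ = b • 𝟙 _ := fun b hb =>
      exists_mul hX (p := n + 1) rfl _ (hs' ▸ Ideal.subset_span hb)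
    choose μ hμ using hμ
    have hZ : ∀ t : Finset {b // b ∈ s}, ∃ (Z : C) (g : Z ⟶ X.obj (op (n + 1))), P Z ∧
        ∀ b ∈ t, ∃ l, l ≫ g = μ b.1 b.2 := by
      classical
      intro t
      induction t using Finset.induction_on with
      | empty =>
        open scoped ZeroObject in
        exact ⟨0, 0, hzero (isZero_zero C), by simp⟩
      | insert b t _ iht =>
        obtain ⟨Z, g, hZ, hl⟩ := iht
        refine ⟨Z ⊞ X.obj (op 0), biprod.desc g (μ b.1 b.2), hext
          (ShortComplex.mk (biprod.inl : Z ⟶ Z ⊞ X.obj (op 0)) biprod.snd biprod.inl_snd)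
          ((ShortComplex.Splitting.mk biprod.fst biprod.inr (by simp) (by simp)
            (by simp)).exact) hZ h0, fun b' hb' => ?_⟩
        rcases Finset.mem_insert.1 hb' with rfl | hb'
        · exact ⟨biprod.inr, by simp⟩
        · obtain ⟨l, hl⟩ := hl b' hb'
          exact ⟨l ≫ biprod.inl, by simp [hl]⟩
    obtain ⟨Z, g, hZ, hl⟩ := hZ Finset.univ
    have hker : kernel.ι (ARSys.tr X (Nat.le_succ n)) ≫ cokernel.π g = 0 := by
      refine IsQuot.inI (hX.2 n (n + 1) (Nat.le_succ n)) (kernel.condition _) _ fun b hb => ?_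
      let K : Ideal A :=
        { carrier := {c | c • cokernel.π g = 0}
          add_mem' := fun {x y} hx hy => by simp_all [add_smul]
          zero_mem' := by simp
          smul_mem' := fun c x hx => by simp_all [mul_smul] }
      have : J ^ (n + 1) ≤ K := by
        rw [← hs', Ideal.span_le]
        intro b hb
        show b • cokernel.π g = 0
        obtain ⟨l, hl⟩ := hl ⟨b, hb⟩ (Finset.mem_univ _)
        have e := congrArg (· ≫ cokernel.π g) (hμ b hb)
        rw [← hl] at e
        simp only [Category.assoc, cokernel.condition, comp_zero, Linear.smul_comp,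
          Category.id_comp] at e
        exact e.symm
      exact this hb
    let f := Abelian.monoLift (Abelian.image.ι g) (kernel.ι (ARSys.tr X (Nat.le_succ n)))
      (by
        have : kernel.ι (ARSys.tr X (Nat.le_succ n)) ≫ cokernel.π g = 0 := hker
        obtain ⟨q, hq⟩ : ∃ q, cokernel.π g ≫ q = cokernel.π (Abelian.image.ι g) :=
          ⟨cokernel.desc _ _ (Eq.trans (congrArg (· ≫ _) (Abelian.image.fac g).symm) (by simp)),
            cokernel.π_desc _ _ _⟩
        rw [← hq, ← Category.assoc, this, zero_comp])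
    have : Mono f := mono_of_mono_fac (Abelian.monoLift_comp _ _ _)
    exact hsub f (hquot (Abelian.factorThruImage g) hZ)

end Groth.EtaleDeep.AR
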