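import Groth.Agent.EtaleDeep.AR.Strict
import Groth.Agent.EtaleDeep.AR.ExtTwo

/-!
# Kernels and cokernels of systems adic up to translation with Noetherian components
-/

universe w v u

open CategoryTheory CategoryTheory.Limits Opposite

namespace Groth.EtaleDeep.AR

variable {C : Type u} [Category.{v} C] [Abelian C] {A : Type w} [CommRing A] [Linear A C]
  {J : Ideal A} {X Y Z : ARSys.PS C}

lemma isARAdic_of_arIso {u : X ⟶ Y} (hu : ARSys.IsARIso u) (hX : ARSys.IsARAdic J X)
    (hY : ARSys.TermKilled J Y) : ARSys.IsARAdic J Y := by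
  obtain ⟨-, P, w, hP, hw⟩ := hX
  exact ⟨hY, P, w ≫ u, hP, isARIso_comp hw hu⟩

lemma noeth_of_mono (i : X ⟶ Y) [Mono i] (h : ∀ n : ℕ, IsNoetherianObject (Y.obj (op n))) (n : ℕ) :
    IsNoetherianObject (X.obj (op n)) :=
  @isNoetherianObject_of_mono C _ _ _ (i.app (op n)) (mono_app i _) (h n)

lemma noeth_of_epi (p : X ⟶ Y) [Epi p] (h : ∀ n : ℕ, IsNoetherianObject (X.obj (op n))) (n : ℕ) :
    IsNoetherianObject (Y.obj (op n)) := by
  have := epi_app p (op n)
  exact isNoetherianObject_of_epi (p.app (op n)) (h n)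

/-- The canonical short exact sequence of a morphism onto its image. -/
lemma shortExact_image (g : X ⟶ Y) :
    (ShortComplex.mk (kernel.ι g) (Abelian.factorThruImage g)
      (by rw [← cancel_mono (Abelian.image.ι g), Category.assoc, Abelian.image.fac, zero_comp,
        kernel.condition])).ShortExact :=
  { exact := by
      rw [ShortComplex.exact_iff_exact_up_to_refinements]
      intro T x hx
      have hx' : x ≫ g = 0 :=
        (congrArg (x ≫ ·) (Abelian.image.fac g)).symm.trans
          (by rw [← Category.assoc, hx, zero_comp])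
      exact ⟨T, 𝟙 _, inferInstance, kernel.lift g x hx', by simp⟩
    mono_f := inferInstanceAs (Mono (kernel.ι g))
    epi_g := inferInstanceAs (Epi (Abelian.factorThruImage g)) }

variable [IsNoetherianRing A]

lemma isARAdic_image (g : X ⟶ Y) (hX : ARSys.IsAdic J X) (hY : ARSys.IsAdicNoeth J Y) :
    ARSys.IsARAdic J (Abelian.image g) :=
  isARAdic_of_strict_sub (Abelian.image.ι g) hY
    (isStrict_of_epi (Abelian.factorThruImage g) (isStrict_of_isAdic hX))

lemma exists_kernel_adic (g : X ⟶ Y) (hX : ARSys.IsAdicNoeth J X) (hY : ARSys.IsAdicNoeth J Y) :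
    ARSys.IsARAdicNoeth J (kernel g) := by
  have hK : ARSys.IsMLAR (kernel g) := isMLAR_X₁ (shortExact_image g) hX.1.1
    ((isMLAR_iff X).2 ⟨0, mlKills_of_isStrict (isStrict_of_isAdic hX.1)⟩)
    (isARAdic_image g hX.1 hY)
  obtain ⟨K', ι, r, _, hK', hι⟩ := exists_strict_sub hK
  exact ⟨isARAdic_of_arIso ((isARIso_iff ι).2 ⟨r, kerNull_of_mono ι r, hι⟩)
    (isARAdic_of_strict_sub (ι ≫ kernel.ι g) hX hK') (termKilled_of_mono (kernel.ι g) hX.1.1),
    noeth_of_mono (kernel.ι g) hX.2⟩

/-- The cokernel of a morphism of adic systems is adic. -/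
lemma isAdicNoeth_cokernel (g : X ⟶ Y) (hX : ARSys.IsAdic J X) (hY : ARSys.IsAdicNoeth J Y) :
    ARSys.IsAdicNoeth J (cokernel g) := by
  refine ⟨?_, noeth_of_epi (cokernel.π g) hY.2⟩
  let S := ShortComplex.mk (Abelian.image.ι g) (cokernel.π g) (by
    rw [← cancel_epi (Abelian.factorThruImage g), ← Category.assoc, Abelian.image.fac,
      cokernel.condition, comp_zero])
  have hS : S.ShortExact :=
    { exact := ShortComplex.exact_of_f_is_kernel _ (kernelIsKernel (cokernel.π g))
      mono_f := inferInstanceAs (Mono (Abelian.image.ι g))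
      epi_g := inferInstanceAs (Epi (cokernel.π g)) }
  exact isAdic_X₃ hS (isStrict_of_epi (Abelian.factorThruImage g) (isStrict_of_isAdic hX)) hY.1

omit [IsNoetherianRing A] in
lemma isAdicNoeth_of_arIso {P : ARSys.PS C} {u : P ⟶ X} (hP : ARSys.IsAdic J P)
    (hu : ARSys.IsARIso u) (hX : ∀ n : ℕ, IsNoetherianObject (X.obj (op n))) :
    ARSys.IsAdicNoeth J P := by
  obtain ⟨r, hk, -⟩ := (isARIso_iff u).1 hu
  exact ⟨hP, fun n => finite_app (P := fun a => IsNoetherianObject a)
    (fun {a b} f _ hb => @isNoetherianObject_of_mono C _ a b f _ hb)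
    (fun f _ => isNoetherianObject_of_epi f) (fun S hS => isNoetherianObject_of_exact S hS)
    (fun {a} ha => isNoetherianObject_of_isZero ha) u hk (isStrict_of_isAdic hP) hX n⟩

lemma isARAdicNoeth_kernel_cokernel (f : X ⟶ Y) (hX : ARSys.IsARAdicNoeth J X)
    (hY : ARSys.IsARAdicNoeth J Y) :
    ARSys.IsARAdicNoeth J (kernel f) ∧ ARSys.IsARAdicNoeth J (cokernel f) := by
  obtain ⟨⟨kX, X', uX, hX', huX⟩, nX⟩ := hX
  obtain ⟨⟨kY, Y', v, hY', hv⟩, nY⟩ := hY
  have hX'n := isAdicNoeth_of_arIso hX' huX nX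
  have hY'n := isAdicNoeth_of_arIso hY' hv nY
  obtain ⟨R, w, hw, -⟩ := exists_inverse v hv
  obtain ⟨g, hg, -⟩ := existsUnique_factor hX' hY'.1 R ((ARSys.shift C R).map (uX ≫ f) ≫ w)
  have hgv : g ≫ v = uX ≫ f := by
    obtain ⟨g₀, -, hu₀⟩ := existsUnique_factor hX' kY R (tau X' R ≫ uX ≫ f)
    rw [hu₀ (g ≫ v) (by show tau X' R ≫ uX ≫ f = _
                        rw [← tau_naturality, ← hw, ← Category.assoc, hg, Category.assoc]),
      hu₀ (uX ≫ f) rfl]
  have hgv' : ∀ n, g.app (op n) ≫ v.app (op n) = uX.app (op n) ≫ f.app (op n) := fun n =>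
    congrArg (fun t => NatTrans.app t (op n)) hgv
  obtain ⟨a, hXk, hXc⟩ := (isARIso_iff uX).1 huX
  obtain ⟨b, hYk, hYc⟩ := (isARIso_iff v).1 hv
  constructor
  · let θ : kernel g ⟶ kernel f := kernel.lift f (kernel.ι g ≫ uX)
      (by rw [Category.assoc, ← hgv, kernel.condition_assoc, zero_comp])
    have hθ : ∀ n, θ.app (op n) ≫ (kernel.ι f).app (op n) =
        (kernel.ι g).app (op n) ≫ uX.app (op n) := fun n =>
      congrArg (fun t => NatTrans.app t (op n)) (kernel.lift_ι f _ _)
    refine ⟨isARAdic_of_arIso ((isARIso_iff θ).2 ⟨a + b, fun n m h hle W k hk => ?_,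
      cokNull_of_exists_lift fun n => ?_⟩) (exists_kernel_adic g hX'n hY'n).1
      (termKilled_of_mono (kernel.ι f) kX), noeth_of_mono (kernel.ι f) nX⟩
    · have := mono_app (kernel.ι g) (op n)
      rw [← cancel_mono ((kernel.ι g).app (op n)), zero_comp, Category.assoc, tr_naturality,
        ← Category.assoc]
      exact hXk h (by omega) _ (by rw [Category.assoc, ← hθ, ← Category.assoc, hk, zero_comp])
    · have h1 : n + b ≤ n + (a + b) := by omega
      obtain ⟨T, π, _, y, hy⟩ := hXc.exists_lift h1 (by omega)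
        ((kernel.ι f).app (op (n + (a + b))))
      rw [← tr_naturality] at hy
      have hyv : (y ≫ g.app (op (n + b))) ≫ v.app (op (n + b)) = 0 := by
        rw [Category.assoc, hgv', ← Category.assoc, ← hy, Category.assoc, Category.assoc,
          ← NatTrans.comp_app, kernel.condition]
        simp
      have h0 := hYk (Nat.le_add_right n b) le_rfl _ hyv
      rw [Category.assoc, ← tr_naturality, ← Category.assoc] at h0
      obtain ⟨l, hl⟩ := exists_factor_kernel g n (y ≫ ARSys.tr X' (Nat.le_add_right n b)) h0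
      refine ⟨T, π, inferInstance, l, ?_⟩
      have := mono_app (kernel.ι f) (op n)
      rw [← cancel_mono ((kernel.ι f).app (op n)), Category.assoc l, hθ, ← Category.assoc l, hl,
        Category.assoc y, tr_naturality uX, ← Category.assoc y, ← hy, Category.assoc, Category.assoc,
        Category.assoc, ← tr_naturality (kernel.ι f), tr_comp_assoc]
  · let ψ : cokernel g ⟶ cokernel f := cokernel.map g f uX v hgv
    have hψ : ∀ n, (cokernel.π g).app (op n) ≫ ψ.app (op n) =
        v.app (op n) ≫ (cokernel.π f).app (op n) := fun n =>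
      congrArg (fun t => NatTrans.app t (op n)) (cokernel.π_desc g _ _)
    refine ⟨isARAdic_of_arIso ((isARIso_iff ψ).2 ⟨a + b, fun n m h hle W k hk => ?_,
      fun n m h hle W p hp => ?_⟩)
      ⟨(isAdicNoeth_cokernel g hX' hY'n).1.1, _, 𝟙 _, (isAdicNoeth_cokernel g hX' hY'n).1,
        isARIso_of_isIso _⟩
      (termKilled_of_epi (cokernel.π f) kY), noeth_of_epi (cokernel.π f) nY⟩
    · have := epi_cokernel_app g (op m)
      obtain ⟨T, π, _, y, hy⟩ := surjective_up_to_refinements_of_epi ((cokernel.π g).app (op m)) k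
      have h0 : (y ≫ v.app (op m)) ≫ (cokernel.π f).app (op m) = 0 := by
        rw [Category.assoc, ← hψ, ← Category.assoc, ← hy, Category.assoc, hk, comp_zero]
      obtain ⟨T₁, π₁, _, x, hx⟩ : ∃ (T₁ : C) (π₁ : T₁ ⟶ T) (_ : Epi π₁)
          (x : T₁ ⟶ X.obj (op m)), π₁ ≫ y ≫ v.app (op m) = x ≫ f.app (op m) :=
        (exact_cokernel_app f (op m)).exact_up_to_refinements _ h0
      have h1 : n + b ≤ m := by omega
      obtain ⟨T₂, π₂, _, x', hx'⟩ := hXc.exists_lift h1 (by omega) x
      have hd : (π₂ ≫ π₁ ≫ y ≫ ARSys.tr Y' h1 - x' ≫ g.app (op (n + b))) ≫ v.app (op (n + b)) = 0 := by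
        rw [Preadditive.sub_comp, Category.assoc x', hgv', ← Category.assoc x', ← hx']
        simp only [Category.assoc]
        rw [tr_naturality v, tr_naturality f, reassoc_of% hx, sub_self]
      have h2 := hYk (Nat.le_add_right n b) le_rfl _ hd
      rw [Preadditive.sub_comp, sub_eq_zero] at h2
      simp only [Category.assoc, tr_comp] at h2
      have hπ : g.app (op n) ≫ (cokernel.π g).app (op n) = 0 := by
        rw [← NatTrans.comp_app, cokernel.condition]; rfl
      rw [← cancel_epi π, ← cancel_epi π₁, ← cancel_epi π₂, comp_zero, comp_zero, comp_zero,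
        reassoc_of% hy, ← tr_naturality, reassoc_of% h2, ← reassoc_of% (tr_naturality g), hπ,
        comp_zero, comp_zero]
    · exact ((hYc.mono (show b ≤ b + 0 by omega)).comp (cokNull_of_epi (cokernel.π f) 0)) h
        (by omega) p (by rw [NatTrans.comp_app, ← hψ, Category.assoc, hp, comp_zero])

lemma isARAdicNoeth_X₁ {S : ShortComplex (ARSys.PS C)} (hS : S.ShortExact)
    (h₂ : ARSys.IsARAdicNoeth J S.X₂) (h₃ : ARSys.IsARAdicNoeth J S.X₃) :
    ARSys.IsARAdicNoeth J S.X₁ := by
  have h := (isARAdicNoeth_kernel_cokernel S.g h₂ h₃).1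
  have := hS.mono_f
  let e : kernel S.g ⟶ S.X₁ := hS.exact.lift (kernel.ι S.g) (kernel.condition _)
  have : IsIso e := ⟨kernel.lift S.g S.f S.zero, by
    rw [← cancel_mono (kernel.ι S.g), Category.assoc, kernel.lift_ι, hS.exact.lift_f,
      Category.id_comp], by
    rw [← cancel_mono S.f, Category.assoc, hS.exact.lift_f, kernel.lift_ι, Category.id_comp]⟩
  exact ⟨isARAdic_of_arIso (isARIso_of_isIso e) h.1 (termKilled_of_mono S.f h₂.1.1),
    noeth_of_mono S.f h₂.2⟩

end Groth.EtaleDeep.AR
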