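import Groth.Agent.EtaleDeep.AR.Adic
import Groth.Agent.EtaleDeep.AdicP.Limit

/-!
# Exact functors and systems up to translation
-/

set_option autoImplicit false
set_option backward.isDefEq.respectTransparency.types false

universe v v' u u'

open CategoryTheory CategoryTheory.Limits Opposite

namespace Groth.EtaleDeep.AR

variable {C : Type u} [Category.{v} C] [Abelian C] {D : Type u'} [Category.{v'} D] [Abelian D]
  (L : C ⥤ D) [L.Additive]

/-- Exact functors preserve isomorphisms up to translation. -/
theorem isARIso_map [PreservesFiniteLimits L] [PreservesFiniteColimits L] {X Y : ARSys.PS C} (u : X ⟶ Y)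
    (hu : ARSys.IsARIso u) : ARSys.IsARIso (Functor.whiskerRight u L) := by
  obtain ⟨r, hk, hc⟩ := (isARIso_iff u).1 hu
  refine (isARIso_iff _).2 ⟨r, fun n m h hle W k hk0 => ?_, fun n m h hle W p hp0 => ?_⟩
  · let e := PreservesKernel.iso L (u.app (op m))
    have h0 : k = (kernel.lift (L.map (u.app (op m))) k hk0 ≫ e.inv) ≫ L.map (kernel.ι (u.app (op m))) := by
      rw [Category.assoc, PreservesKernel.iso_inv_ι, kernel.lift_ι]
    rw [h0, Category.assoc]
    change _ ≫ L.map (kernel.ι (u.app (op m))) ≫ L.map (ARSys.tr X h) = 0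
    rw [← L.map_comp, hk h hle _ (kernel.condition _), L.map_zero, comp_zero]
  · let e := PreservesCokernel.iso L (u.app (op n))
    have h0 : p = L.map (cokernel.π (u.app (op n))) ≫ e.hom ≫ cokernel.desc (L.map (u.app (op n))) p hp0 := by
      rw [← Category.assoc, PreservesCokernel.π_iso_hom, cokernel.π_desc]
    rw [h0, ← Category.assoc]
    change (L.map (ARSys.tr Y h) ≫ L.map (cokernel.π (u.app (op n)))) ≫ _ = 0
    rw [← L.map_comp, hc h hle _ (cokernel.condition _), L.map_zero, zero_comp]

variable {A : Type*} [CommRing A] [Linear A C] [Linear A D]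

omit [L.Additive] in
/-- Left adjoints of linear functors preserve adic systems. -/
theorem isAdic_map {R : D ⥤ C} (adj : L ⊣ R)
    (hR : ∀ {Y Y' : D} (g : Y ⟶ Y') (a : A), R.map (a • g) = a • R.map g)
    {I : Ideal A} {Y : ARSys.PS C} (hY : ARSys.IsAdic I Y) : ARSys.IsAdic I (Y ⋙ L) :=
  ⟨fun n => AdicP.killedBy_map adj hR _ (hY.1 n),
    fun n m h => AdicP.isQuot_map adj hR _ _ (hY.2 n m h)⟩

end Groth.EtaleDeep.AR
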