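import Groth.Agent.EtaleDeep.AR.Kernels
import Groth.Agent.S13621
import Mathlib.Algebra.Homology.ShortComplex.SnakeLemma

/-!
# Completeness with respect to a principal ideal in extensions
-/

universe w v u

open CategoryTheory CategoryTheory.Limits Opposite

namespace Groth.EtaleDeep.AR

variable {C : Type u} [Category.{v} C] [Abelian C] {A : Type w} [CommRing A] [Linear A C] (a : A)

lemma smul_pow_add (k l : ℕ) (M : C) :
    (a ^ (k + l)) • 𝟙 M = (a ^ k • 𝟙 M) ≫ (a ^ l • 𝟙 M) := by
  rw [Linear.smul_comp, Category.id_comp, smul_smul, pow_add]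

lemma smul_id_comm {M N : C} (b : A) (φ : M ⟶ N) : (b • 𝟙 M) ≫ φ = φ ≫ (b • 𝟙 N) := by
  simp [Linear.smul_comp, Linear.comp_smul]

lemma smul_pow_π {M : C} {i j : ℕ} (h : i ≤ j) :
    (a ^ j • 𝟙 M) ≫ cokernel.π (a ^ i • 𝟙 M) = 0 := by
  obtain ⟨d, rfl⟩ := Nat.exists_eq_add_of_le h
  rw [add_comm, smul_pow_add, Category.assoc, cokernel.condition, comp_zero]

/-- The tower of quotients by powers of an element. -/
noncomputable def tower : C ⥤ ARSys.PS C where
  obj M :=
    { obj := fun o => cokernel (a ^ (o.unop + 1) • 𝟙 M)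
      map := fun {o o'} h => cokernel.desc _ (cokernel.π (a ^ (o'.unop + 1) • 𝟙 M))
        (smul_pow_π a (Nat.add_le_add_right (leOfHom h.unop) 1))
      map_id := fun o => by ext; simp
      map_comp := fun g h => by ext; simp }
  map {M N} φ :=
    { app := fun o => cokernel.map _ _ φ φ (smul_id_comm _ φ)
      naturality := fun o o' h => by ext; simp }
  map_id M := by ext o : 2; apply coequalizer.hom_ext; simp
  map_comp φ ψ := by ext o : 2; apply coequalizer.hom_ext; simp

/-- The projections to the tower. -/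
noncomputable def towerπ (M : C) : (Functor.const ℕᵒᵖ).obj M ⟶ (tower a).obj M where
  app o := cokernel.π (a ^ (o.unop + 1) • 𝟙 M)
  naturality o o' h := by simp [tower]

lemma towerπ_map {M N : C} (φ : M ⟶ N) (o : ℕᵒᵖ) :
    (towerπ a M).app o ≫ ((tower a).map φ).app o = φ ≫ (towerπ a N).app o :=
  cokernel.π_desc _ _ _

instance epi_towerπ (M : C) (o : ℕᵒᵖ) : Epi ((towerπ a M).app o) :=
  inferInstanceAs (Epi (cokernel.π (a ^ (o.unop + 1) • 𝟙 M)))

lemma smul_pow_towerπ (M : C) (o : ℕᵒᵖ) {j : ℕ} (h : o.unop + 1 ≤ j) :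
    (a ^ j • 𝟙 M) ≫ (towerπ a M).app o = 0 :=
  smul_pow_π a h

/-- The kernels of the projections. -/
lemma exists_of_towerπ {M : C} (o : ℕᵒᵖ) {T : C} (k : T ⟶ M) (hk : k ≫ (towerπ a M).app o = 0) :
    ∃ (T' : C) (π : T' ⟶ T) (_ : Epi π) (x : T' ⟶ M), π ≫ k = x ≫ (a ^ (o.unop + 1) • 𝟙 M) :=
  (ShortComplex.exact_of_g_is_cokernel (ShortComplex.mk _ _ (cokernel.condition (a ^ (o.unop + 1) • 𝟙 M)))
    (cokernelIsCokernel _)).exact_up_to_refinements k hk

lemma towerπ_tr (M : C) {i j : ℕ} (h : i ≤ j) :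
    (towerπ a M).app (op j) ≫ ARSys.tr ((tower a).obj M) h = (towerπ a M).app (op i) :=
  ((towerπ a M).naturality (homOfLE h).op).symm.trans (Category.id_comp _)

lemma isQuot_towerπ (M : C) (n : ℕ) :
    ARSys.IsQuot (Ideal.span {a} ^ (n + 1)) ((towerπ a M).app (op n)) := by
  rw [Ideal.span_singleton_pow]
  refine (isQuot_iff _).2 ⟨fun b hb => ?_, inferInstance, fun T k hk W φ hφ => ?_⟩
  · obtain ⟨c, rfl⟩ := Ideal.mem_span_singleton'.1 hb
    rw [← cancel_epi ((towerπ a M).app (op n))]
    rw [← smul_id_comm]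
    dsimp only [Functor.const_obj_obj]
    rw [comp_zero, mul_comm c, ← smul_smul, show (a ^ (n + 1) • c • 𝟙 M) = c • (a ^ (n + 1) • 𝟙 M) from
      smul_comm _ _ _, Linear.smul_comp, smul_pow_towerπ a M (op n) le_rfl, smul_zero]
  · obtain ⟨T', π, _, x, hx⟩ := exists_of_towerπ a (op n) k hk
    rw [← cancel_epi π, ← Category.assoc, hx, Category.assoc, Linear.smul_comp, Category.id_comp,
      hφ _ (Ideal.mem_span_singleton_self _), comp_zero, comp_zero]

variable [HasLimitsOfShape ℕᵒᵖ C]

/-- The comparison with the completion. -/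
noncomputable def towerLift (M : C) : M ⟶ limit ((tower a).obj M) :=
  limit.lift _ (Cone.mk M (towerπ a M))

lemma towerLift_map {M N : C} (φ : M ⟶ N) :
    towerLift a M ≫ limMap ((tower a).map φ) = φ ≫ towerLift a N :=
  limit.hom_ext fun o => by simp [towerLift, towerπ_map]

lemma exists_tower_iso {M : C} {Q : ℕᵒᵖ ⥤ C} (p : (Functor.const ℕᵒᵖ).obj M ⟶ Q)
    (hp : ∀ n : ℕ, ARSys.IsQuot (Ideal.span {a} ^ (n + 1)) (p.app (op n)))
    (hi : IsIso (limit.lift Q (Cone.mk M p))) :
    Nonempty ((tower a).obj M ≅ Q) ∧ IsIso (towerLift a M) := by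
  choose α hα hαu using fun n => (isQuot_towerπ a M n).2 _ (p.app (op n))
    (homKilledBy_of_killedBy_target _ (hp n).1)
  choose β hβ hβu using fun n => (hp n).2 _ ((towerπ a M).app (op n))
    (homKilledBy_of_killedBy_target _ (isQuot_towerπ a M n).1)
  let e : ∀ o : ℕᵒᵖ, ((tower a).obj M).obj o ≅ Q.obj o := fun o =>
    { hom := α o.unop
      inv := β o.unop
      hom_inv_id := by
        have := IsQuot.epi (isQuot_towerπ a M o.unop)
        rw [← cancel_epi ((towerπ a M).app (op o.unop)), ← Category.assoc, hα, hβ]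
        exact (Category.comp_id _).symm
      inv_hom_id := by
        have := IsQuot.epi (hp o.unop)
        rw [← cancel_epi (p.app (op o.unop)), ← Category.assoc, hβ, hα]
        exact (Category.comp_id _).symm }
  let E : (tower a).obj M ≅ Q := NatIso.ofComponents e fun {o o'} h => by
    have := IsQuot.epi (isQuot_towerπ a M o.unop)
    have h1 := (towerπ a M).naturality h
    have h2 := p.naturality h
    simp only [Functor.const_obj_obj, Functor.const_obj_map, Category.id_comp] at h1 h2
    rw [← cancel_epi ((towerπ a M).app (op o.unop))]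
    show (towerπ a M).app o ≫ ((tower a).obj M).map h ≫ α o'.unop = (towerπ a M).app o ≫ α o.unop ≫ Q.map h
    rw [← Category.assoc, ← h1, show (towerπ a M).app o' ≫ α o'.unop = p.app o' from hα _,
      ← Category.assoc, show (towerπ a M).app o ≫ α o.unop = p.app o from hα _, ← h2]
  refine ⟨⟨E⟩, ?_⟩
  have : towerLift a M = limit.lift Q (Cone.mk M p) ≫ (lim.mapIso E).inv := by
    rw [Iso.eq_comp_inv]
    refine limit.hom_ext fun o => ?_
    simpa [towerLift, E, e] using hα o.unop
  rw [this]
  infer_instance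

/-- The tower of the middle term of an extension with bounded torsion quotient. -/
theorem isIso_towerLift_X₂ {S : ShortComplex C} (hS : S.ShortExact) (h₁ : IsIso (towerLift a S.X₁))
    (h₃ : IsIso (towerLift a S.X₃)) (c : ℕ)
    (hc : ∀ (m : ℕ) ⦃W : C⦄ (y : W ⟶ S.X₃), a ^ m • y = 0 → a ^ c • y = 0) :
    IsIso (towerLift a S.X₂) := by
  have := hS.mono_f
  have := hS.epi_g
  have hTw : (tower a).map S.f ≫ (tower a).map S.g = 0 := by
    rw [← Functor.map_comp, S.zero]
    ext o : 2
    rw [← cancel_epi ((towerπ a S.X₁).app o), towerπ_map]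
    simp
  have hker : KerNull ((tower a).map S.f) c := by
    intro n m h hle W k hk
    obtain ⟨W₁, π₁, _, x, hx⟩ := surjective_up_to_refinements_of_epi ((towerπ a S.X₁).app (op m)) k
    dsimp only [Functor.const_obj_obj] at x hx
    have h0 : (x ≫ S.f) ≫ (towerπ a S.X₂).app (op m) = 0 := by
      rw [Category.assoc, ← towerπ_map, ← Category.assoc, ← hx, Category.assoc, hk, comp_zero]
    obtain ⟨W₂, π₂, _, y, hy⟩ := exists_of_towerπ a (op m) _ h0
    dsimp only [Opposite.unop_op] at hy
    rw [Linear.comp_smul, Category.comp_id] at hy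
    have hyg : a ^ (m + 1) • (y ≫ S.g) = 0 := by
      rw [← Linear.smul_comp, ← hy, Category.assoc, Category.assoc, S.zero, comp_zero, comp_zero]
    obtain ⟨z, hz⟩ : ∃ z : W₂ ⟶ S.X₁, z ≫ S.f = a ^ c • y :=
      ⟨hS.exact.lift (a ^ c • y) (by rw [Linear.smul_comp]; exact hc _ _ hyg), hS.exact.lift_f _ _⟩
    have hxz : π₂ ≫ x = z ≫ (a ^ (m + 1 - c) • 𝟙 S.X₁) := by
      rw [← cancel_mono S.f, Category.assoc, hy, Category.assoc, smul_id_comm, ← Category.assoc, hz,
        Linear.comp_smul, Category.comp_id, smul_smul, ← pow_add, show m + 1 - c + c = m + 1 by omega]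
    rw [← cancel_epi π₁, ← cancel_epi π₂, comp_zero, comp_zero, ← Category.assoc π₁, hx, Category.assoc,
      towerπ_tr, ← Category.assoc, hxz, Category.assoc,
      smul_pow_towerπ a _ _ (show (op n).unop + 1 ≤ m + 1 - c by simp; omega), comp_zero]
  -- the image of the first tower
  let q := Abelian.factorThruImage ((tower a).map S.f)
  let ι := Abelian.image.ι ((tower a).map S.f)
  have hqι : q ≫ ι = (tower a).map S.f := Abelian.image.fac _
  have hq : IsIso (limMap q) := by
    refine Groth.Agent.S13621.result q ((isARIso_iff q).2 ⟨c, fun n m h hle W k hk => ?_, cokNull_of_epi q c⟩)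
    refine hker h hle k ?_
    rw [← hqι, NatTrans.comp_app, ← Category.assoc, hk, zero_comp]
  have hexact : ∀ {W : C} (y : W ⟶ limit ((tower a).obj S.X₂)), y ≫ limMap ((tower a).map S.g) = 0 →
      ∃ z : W ⟶ limit (Abelian.image ((tower a).map S.f)), z ≫ limMap ι = y := by
    intro W y hy
    have hyo : ∀ o, ∃ z : W ⟶ (Abelian.image ((tower a).map S.f)).obj o,
        z ≫ ι.app o = y ≫ limit.π _ o := fun o => by
      have : Mono (ι.app o) := mono_app ι o
      let T := ShortComplex.mk (ι.app o) (((tower a).map S.g).app o) (by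
        have := epi_app q o
        rw [← cancel_epi (q.app o), ← Category.assoc, ← NatTrans.comp_app, hqι, ← NatTrans.comp_app, hTw]
        simp)
      have hT : T.Exact := by
        rw [ShortComplex.exact_iff_exact_up_to_refinements]
        intro W' x hx
        obtain ⟨W₁, π₁, _, x', hx'⟩ := surjective_up_to_refinements_of_epi ((towerπ a S.X₂).app o) x
        dsimp only [Functor.const_obj_obj] at x' hx'
        have h0 : (x' ≫ S.g) ≫ (towerπ a S.X₃).app o = 0 := by
          rw [Category.assoc, ← towerπ_map, ← Category.assoc, ← hx', Category.assoc]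
          exact (congrArg (π₁ ≫ ·) hx).trans comp_zero
        obtain ⟨W₂, π₂, _, h', hh'⟩ := exists_of_towerπ a o _ h0
        obtain ⟨W₃, π₃, _, g', hg'⟩ := surjective_up_to_refinements_of_epi S.g h'
        let d := π₃ ≫ π₂ ≫ x' - g' ≫ (a ^ (o.unop + 1) • 𝟙 S.X₂)
        have hd : d ≫ S.g = 0 := by
          rw [Preadditive.sub_comp, Category.assoc, Category.assoc, hh', Category.assoc, smul_id_comm,
            reassoc_of% hg', sub_self]
        refine ⟨W₃, π₃ ≫ π₂ ≫ π₁, inferInstance,
          hS.exact.lift d hd ≫ (towerπ a S.X₁).app o ≫ q.app o, ?_⟩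
        show (π₃ ≫ π₂ ≫ π₁) ≫ x = _ ≫ ι.app o
        rw [Category.assoc, Category.assoc, hx', Category.assoc, Category.assoc, ← NatTrans.comp_app, hqι,
          towerπ_map, ← Category.assoc (hS.exact.lift d hd), hS.exact.lift_f, Preadditive.sub_comp]
        simp only [Category.assoc, smul_pow_towerπ a _ _ le_rfl, comp_zero, sub_zero]
      have : Mono T.f := ‹Mono (ι.app o)›
      exact ⟨hT.lift (y ≫ limit.π _ o) (by
        show (y ≫ limit.π _ o) ≫ ((tower a).map S.g).app o = 0
        rw [Category.assoc, ← limMap_π, ← Category.assoc, hy, zero_comp]), hT.lift_f _ _⟩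
    choose z hz using hyo
    refine ⟨limit.lift _ (Cone.mk W ⟨z, fun o o' h => ?_⟩), limit.hom_ext fun o => by simp [hz]⟩
    have : Mono (ι.app o') := mono_app ι o'
    rw [← cancel_mono (ι.app o')]
    simp [ι.naturality h, reassoc_of% (hz o), hz o']
  have hm : Mono (limMap ι) := Preadditive.mono_of_cancel_zero _ fun {W} z hz => limit.hom_ext fun o => by
    have := mono_app ι o
    rw [← cancel_mono (ι.app o), zero_comp, zero_comp, Category.assoc, ← limMap_π, ← Category.assoc, hz,
      zero_comp]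
  have hlim : limMap ((tower a).map S.f) = limMap q ≫ limMap ι := limit.hom_ext fun o => by
    rw [limMap_π, Category.assoc, limMap_π, limMap_π_assoc, ← NatTrans.comp_app, hqι]
  have hF : Mono (limMap ((tower a).map S.f)) := by
    rw [hlim]
    infer_instance
  have : Mono (towerLift a S.X₂) := Preadditive.mono_of_cancel_zero _ fun {W} x hx => by
    have h3 : (x ≫ S.g) ≫ towerLift a S.X₃ = 0 := by
      rw [Category.assoc, ← towerLift_map, ← Category.assoc, hx, zero_comp]
    have hxg : x ≫ S.g = 0 := (cancel_mono (towerLift a S.X₃)).1 (h3.trans zero_comp.symm)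
    rw [← hS.exact.lift_f x hxg] at hx ⊢
    have : hS.exact.lift x hxg = 0 := by
      rw [Category.assoc, ← towerLift_map, ← Category.assoc] at hx
      rw [← cancel_mono (towerLift a S.X₁), ← cancel_mono (limMap ((tower a).map S.f)), zero_comp, zero_comp]
      exact hx
    rw [this, zero_comp]
  have : Epi (towerLift a S.X₂) := by
    rw [epi_iff_surjective_up_to_refinements]
    intro W y
    obtain ⟨W', π, _, x, hx⟩ := surjective_up_to_refinements_of_epi S.g
      (y ≫ limMap ((tower a).map S.g) ≫ inv (towerLift a S.X₃))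
    obtain ⟨z, hz⟩ := hexact (π ≫ y - x ≫ towerLift a S.X₂) (by
      rw [Preadditive.sub_comp, Category.assoc x, towerLift_map, ← Category.assoc x, ← hx]
      simp)
    refine ⟨W', π, inferInstance, x + z ≫ inv (limMap q) ≫ inv (towerLift a S.X₁) ≫ S.f, ?_⟩
    rw [Preadditive.add_comp]
    simp only [Category.assoc]
    rw [← towerLift_map a S.f, IsIso.inv_hom_id_assoc, hlim, IsIso.inv_hom_id_assoc, hz]
    abel
  exact isIso_of_mono_of_epi _

/-- Quotients of the middle term of an extension belong to a weak Serre class. -/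
theorem prop_tower_X₂ {S : ShortComplex C} (hS : S.ShortExact) (P : C → Prop)
    (hiso : ∀ {X Y : C}, (X ≅ Y) → P X → P Y)
    (hker : ∀ {X Y : C} (f : X ⟶ Y), P X → P Y → P (kernel f))
    (hcok : ∀ {X Y : C} (f : X ⟶ Y), P X → P Y → P (cokernel f))
    (hext : ∀ {T : ShortComplex C}, T.ShortExact → P T.X₁ → P T.X₃ → P T.X₂) (n : ℕ)
    (h₁ : P (((tower a).obj S.X₁).obj (op n))) (h₃ : P (((tower a).obj S.X₃).obj (op n)))
    (hk : P (kernel (a ^ (n + 1) • 𝟙 S.X₃))) : P (((tower a).obj S.X₂).obj (op n)) := by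
  let v : S ⟶ S :=
    { τ₁ := a ^ (n + 1) • 𝟙 S.X₁
      τ₂ := a ^ (n + 1) • 𝟙 S.X₂
      τ₃ := a ^ (n + 1) • 𝟙 S.X₃
      comm₁₂ := smul_id_comm _ _
      comm₂₃ := smul_id_comm _ _ }
  let D : ShortComplex.SnakeInput C :=
    { L₀ := kernel v
      L₁ := S
      L₂ := S
      L₃ := cokernel v
      v₀₁ := kernel.ι v
      v₁₂ := v
      v₂₃ := cokernel.π v
      w₀₂ := kernel.condition v
      w₁₃ := cokernel.condition v
      h₀ := kernelIsKernel v
      h₃ := cokernelIsCokernel v
      L₁_exact := hS.exact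
      epi_L₁_g := hS.epi_g
      L₂_exact := hS.exact
      mono_L₂_f := hS.mono_f }
  have e₁ : P D.L₃.X₁ := hiso (PreservesCokernel.iso ShortComplex.π₁ v).symm h₁
  have e₃ : P D.L₃.X₃ := hiso (PreservesCokernel.iso ShortComplex.π₃ v).symm h₃
  have e₀ : P D.L₀.X₃ := hiso (PreservesKernel.iso ShortComplex.π₃ v).symm hk
  have : Epi D.L₁.g := hS.epi_g
  have : Epi D.L₃.g := D.epi_L₃_g
  let j : cokernel D.δ ⟶ D.L₃.X₂ := cokernel.desc D.δ D.L₃.f D.δ_L₃_f
  have : Mono j := D.L₂'_exact.mono_cokernelDesc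
  let T := ShortComplex.mk j D.L₃.g (by
    rw [← cancel_epi (cokernel.π D.δ), ← Category.assoc, cokernel.π_desc, D.L₃.zero, comp_zero])
  have hT : T.ShortExact :=
    { exact := by
        rw [ShortComplex.exact_iff_exact_up_to_refinements]
        intro W x hx
        obtain ⟨W', π, hπ, y, hy⟩ := D.L₃_exact.exact_up_to_refinements x hx
        exact ⟨W', π, hπ, y ≫ cokernel.π D.δ, by rw [hy, Category.assoc]; exact congrArg (y ≫ ·) (cokernel.π_desc _ _ _).symm⟩
      mono_f := this
      epi_g := ‹Epi D.L₃.g› }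
  have := hext hT (hcok D.δ e₀ e₁) e₃
  exact hiso (PreservesCokernel.iso ShortComplex.π₂ v) this

end Groth.EtaleDeep.AR
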