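import Groth.Agent.EtaleDeep.AR.Graded
import Groth.Agent.EtaleDeep.AR.Exact
import Mathlib.CategoryTheory.Functor.OfSequence
import Mathlib.RingTheory.Finiteness.Ideal

/-!
# Strict subsystems of adic Noetherian systems
-/

universe w v u

open CategoryTheory CategoryTheory.Limits Opposite

namespace Groth.EtaleDeep.AR

variable {C : Type u} [Category.{v} C] [Abelian C] {A : Type w} [CommRing A] [Linear A C]
  {J : Ideal A} {X : ARSys.PS C}

/-- A strict killed system whose kernels lie in `J^(n-r)` is adic up to translation. -/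
lemma isARAdic_of_fker_le (hJ : J.FG ∨ HasCoproducts.{w} C) (hX : ARSys.IsStrict X)
    (kX : ARSys.TermKilled J X) (r : ℕ)
    (h : ∀ n, ∀ ⦃T : C⦄ (x : T ⟶ X.obj (op n)), InF X n n x → InI (J ^ (n - r)) x) :
    ARSys.IsARAdic J X := by
  have hfg : ∀ n, (J ^ n).FG ∨ HasCoproducts.{w} C := fun n => hJ.imp_left fun h => Ideal.FG.pow h
  choose Q q hq using fun n => exists_isQuot (hfg (n + 1)) (X.obj (op (n + r)))
  have hqe : ∀ n, Epi (q n) := fun n => IsQuot.epi (hq n)
  have hd : ∀ n, ∃ d : Q (n + 1) ⟶ Q n,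
      q (n + 1) ≫ d = ARSys.tr X (Nat.add_le_add_right (Nat.le_succ n) r) ≫ q n := fun n =>
    ((hq (n + 1)).2 _ _ (homKilledBy_anti (pow_le_pow (Nat.le_succ _))
      (homKilledBy_pre _ _ (homKilledBy_of_killedBy_target _ (hq n).1)))).exists
  choose d hd using hd
  let Y : ARSys.PS C := Functor.ofOpSequence d
  have hY : ARSys.IsAdic J Y := isAdic_of_succ (fun n => (hq n).1) fun n => by
    show ARSys.IsQuot (J ^ (n + 1)) (Y.map (homOfLE (Nat.le_succ n)).op)
    rw [Functor.ofOpSequence_map_homOfLE_succ]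
    show ARSys.IsQuot (J ^ (n + 1)) (d n)
    refine ⟨(hq n).1, fun W φ hφ => ?_⟩
    have hqφ : ARSys.HomKilledBy (J ^ (n + 1)) (q (n + 1) ≫ φ) := homKilledBy_pre _ _ hφ
    let t := ARSys.tr X (Nat.add_le_add_right (Nat.le_succ n) r)
    have : Epi t := hX _ _ _
    have hker : kernel.ι t ≫ q (n + 1) ≫ φ = 0 := by
      refine (h (n + 1 + r) (kernel.ι t) (fun k hk hkr => ?_)).mono_ideal
        (pow_le_pow (by omega)) _ hqφ
      rw [← tr_comp X (show k ≤ n + r by omega) (Nat.add_le_add_right (Nat.le_succ n) r),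
        kernel.condition_assoc, zero_comp]
    let ψ := Abelian.epiDesc t _ hker
    have hψ : t ≫ ψ = q (n + 1) ≫ φ := Abelian.comp_epiDesc _ _ _
    obtain ⟨χ, hχ, hu⟩ := (hq n).2 W ψ (homKilledBy_of_epi t ψ (by rw [hψ]; exact hqφ))
    refine ⟨χ, ?_, fun χ' hχ' => hu χ' ?_⟩
    · show d n ≫ χ = φ
      rw [← cancel_epi (q (n + 1)), ← Category.assoc, hd, Category.assoc, hχ]
      exact hψ
    · show q n ≫ χ' = ψ
      have hχ'' : d n ≫ χ' = φ := hχ'
      rw [← cancel_epi t, ← Category.assoc, ← hd, Category.assoc, hχ'', hψ]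
  let Qn : (ARSys.shift C r).obj X ⟶ Y := NatTrans.ofOpSequence (fun n => q n) (fun n => by
    rw [Functor.ofOpSequence_map_homOfLE_succ]
    show ARSys.tr ((ARSys.shift C r).obj X) (Nat.le_succ n) ≫ q n = q (n + 1) ≫ d n
    rw [tr_shift, hd]
    rfl)
  exact isARAdic_of_quot hX kX r Qn (fun n => hq n) hY

lemma termKilled_of_isAdapted (h : ARSys.IsAdapted J X) : ARSys.TermKilled J X := fun n a ha =>
  (isAdapted_iff X).1 h n (n + 1) 0 le_rfl a ha (𝟙 _) fun _ _ hk => absurd hk (by omega)

lemma isGrSub_of (hX : ARSys.IsStrict X) {M : (q : ℕ) → Subobject (X.obj (op q))}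
    (h₁ : ∀ q, M q ≤ ARSys.Fsub X q q)
    (h₂ : ∀ (p q : ℕ) (a : A), a ∈ J ^ p → ∀ ⦃T : C⦄ (y : T ⟶ X.obj (op (p + q))),
      (M q).Factors (y ≫ ARSys.tr X (Nat.le_add_left q p)) → (M (p + q)).Factors (a • y)) :
    ARSys.IsGrSub J X M := by
  refine ⟨h₁, fun p q a ha => (le_iff_kills _ _).2 fun W φ hφ => ?_⟩
  refine (imageSubobject_kills_iff _ _).2 ?_
  rw [Linear.comp_smul, Category.comp_id]
  exact (factors_iff_kills _ _).1 (h₂ p q a ha _
    ((Subobject.isPullback (ARSys.tr X (Nat.le_add_left q p)) (M q)).w ▸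
      Subobject.factors_comp_arrow _)) φ hφ

/-- A strict adapted system whose strict graded object is of finite type is adic up to
translation. -/
lemma isARAdic_of_grsFiniteType (hJ : J.FG ∨ HasCoproducts.{w} C) (hX : ARSys.IsStrict X)
    (hA : ARSys.IsAdapted J X) (hft : ARSys.GrsFiniteType J X) : ARSys.IsARAdic J X := by
  have hfg : ∀ n, (J ^ n).FG ∨ HasCoproducts.{w} C := fun n => hJ.imp_left fun h => Ideal.FG.pow h
  choose Q π hπ using fun i q : ℕ => exists_isQuot (hfg (q - i)) (X.obj (op q))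
  let M : ℕ → (q : ℕ) → Subobject (X.obj (op q)) := fun i q =>
    ARSys.Fsub X q q ⊓ kernelSubobject (π i q)
  have hM : ∀ i q {T : C} (x : T ⟶ X.obj (op q)),
      (M i q).Factors x ↔ InF X q q x ∧ InI (J ^ (q - i)) x := fun i q T x => by
    show (_ ⊓ _ : Subobject _).Factors x ↔ _
    rw [Subobject.inf_factors, fsub_factors_iff, kernelSubobject_factors_iff]
    refine and_congr_right fun _ => ⟨fun h => IsQuot.inI (hπ i q) h, fun h => ?_⟩
    exact h _ (homKilledBy_of_killedBy_target _ (hπ i q).1)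
  have hkill : ∀ (p q : ℕ) (a : A), a ∈ J ^ p → ∀ ⦃T : C⦄ (k : T ⟶ X.obj (op (p + q))),
      k ≫ ARSys.tr X (Nat.le_add_left q p) = 0 → a • k = 0 := fun p q a ha T k hk =>
    (isAdapted_iff X).1 hA (p + q) p (q + 1) (by omega) a ha k fun l hl hlq => by
      rw [← tr_comp X (show l ≤ q by omega) (Nat.le_add_left q p), ← Category.assoc, hk, zero_comp]
  obtain ⟨i, hi⟩ := hft M (fun i => isGrSub_of hX (fun q => inf_le_left) fun p q a ha T y hy => by
      obtain ⟨hy₁, hy₂⟩ := (hM i q _).1 hy
      refine (hM i (p + q) _).2 ⟨fun k hk hkq => ?_, fun W φ hφ => ?_⟩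
      · rw [Linear.smul_comp]
        refine (isAdapted_iff X).1 hA k p (k + 1 - p) (by omega) a ha _ fun l hl hlq => ?_
        rw [Category.assoc, tr_comp]
        have := hy₁ l (by omega) (by omega)
        rwa [Category.assoc, tr_comp] at this
      · have := hX q (p + q) (Nat.le_add_left q p)
        have h0 : kernel.ι (ARSys.tr X (Nat.le_add_left q p)) ≫ (a • φ) = 0 := by
          rw [Linear.comp_smul, ← Linear.smul_comp,
            hkill p q a ha _ (kernel.condition _), zero_comp]
        have hψ := Abelian.comp_epiDesc (ARSys.tr X (Nat.le_add_left q p)) (a • φ) h0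
        rw [Linear.smul_comp, ← Linear.comp_smul, ← hψ, ← Category.assoc]
        refine hy₂ _ (homKilledBy_of_epi (ARSys.tr X (Nat.le_add_left q p)) _ fun b hb => ?_)
        rw [hψ, smul_smul]
        refine hφ _ (pow_le_pow (show p + q - i ≤ p + (q - i) by omega) ?_)
        rw [pow_add, mul_comm b a]
        exact Ideal.mul_mem_mul ha hb)
    (fun i j h q => le_of_forall_factors fun T x hx => (hM j q x).2
      ⟨((hM i q x).1 hx).1, ((hM i q x).1 hx).2.mono_ideal (pow_le_pow (by omega))⟩)
    (fun q => by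
      refine ⟨by rintro _ ⟨i, rfl⟩; exact inf_le_left, fun S hS => le_trans ?_ (hS ⟨q, rfl⟩)⟩
      exact le_of_forall_factors fun T x hx => (hM q q x).2 ⟨(fsub_factors_iff X q q x).1 hx, by
        rw [Nat.sub_self, pow_zero, Ideal.one_eq_top]; exact inI_top x⟩)
  refine isARAdic_of_fker_le hJ hX (termKilled_of_isAdapted hA) i fun n T x hx => ?_
  have := (fsub_factors_iff X n n x).2 hx
  rw [← hi n] at this
  exact ((hM i n x).1 this).2

section Sub

variable {Z : ARSys.PS C} (ι : Z ⟶ X) [Mono ι]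

omit [Linear A C] in
lemma inF_comp_iff {q n : ℕ} {T : C} (x : T ⟶ Z.obj (op n)) :
    InF Z q n x ↔ InF X q n (x ≫ ι.app (op n)) := by
  refine forall_congr' fun k => forall_congr' fun h => imp_congr_right fun _ => ?_
  have := mono_app ι (op k)
  rw [Category.assoc, ← tr_naturality, ← Category.assoc]
  exact ⟨fun h0 => by rw [h0, zero_comp], fun h0 => (cancel_mono (ι.app (op k))).1
    (by rw [h0, zero_comp])⟩

include ι in
lemma isAdapted_of_mono (hA : ARSys.IsAdapted J X) : ARSys.IsAdapted J Z :=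
  (isAdapted_iff Z).2 fun n p q hpq a ha T x hx => by
    have := mono_app ι (op n)
    rw [← cancel_mono (ι.app (op n)), Linear.smul_comp, zero_comp]
    exact (isAdapted_iff X).1 hA n p q hpq a ha _ ((inF_comp_iff ι x).1 hx)

lemma isGrSub_img (hX : ARSys.IsAdic J X) (hZ : ARSys.IsStrict Z)
    {M : (q : ℕ) → Subobject (Z.obj (op q))} (hM : ARSys.IsGrSub J Z M) :
    ARSys.IsGrSub J X fun q => img (ι.app (op q)) (M q) := by
  have hF : ∀ q {T : C} {x : T ⟶ Z.obj (op q)}, (M q).Factors x →
      InF X q q (x ≫ ι.app (op q)) := fun q T x hx =>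
    (inF_comp_iff ι x).1 ((fsub_factors_iff Z q q x).1 (Subobject.factors_of_le _ (hM.1 q) hx))
  refine isGrSub_of (isStrict_of_isAdic hX)
    (fun q => le_of_forall_factors fun T x hx => ?_) fun p q a ha T y hy => ?_
  · obtain ⟨T', π, _, z, hz, e⟩ := exists_of_img_factors hx
    refine factors_of_epi π _ _ ?_
    rw [e]
    exact (fsub_factors_iff X q q _).2 (hF q hz)
  · have hqp := Nat.le_add_left q p
    obtain ⟨T', π, _, z, hz, e⟩ := exists_of_img_factors hy
    have := hZ q (p + q) hqp
    obtain ⟨T'', π', _, z', hz'⟩ := surjective_up_to_refinements_of_epi (ARSys.tr Z hqp) z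
    refine factors_of_epi π _ _ (factors_of_epi π' _ _ ?_)
    have hd : a • (π' ≫ π ≫ y - z' ≫ ι.app (op (p + q))) = 0 := by
      refine (isAdapted_iff X).1 (isAdapted_of_isAdic hX) (p + q) p (q + 1) (by omega) a ha _
        fun l hl hlq => ?_
      have h0 : (π' ≫ π ≫ y - z' ≫ ι.app (op (p + q))) ≫ ARSys.tr X hqp = 0 := by
        rw [Preadditive.sub_comp, Category.assoc, Category.assoc, e, Category.assoc,
          ← tr_naturality, ← Category.assoc, hz', Category.assoc, sub_self]
      rw [← tr_comp X (show l ≤ q by omega) hqp, ← Category.assoc, h0, zero_comp]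
    rw [smul_sub, sub_eq_zero] at hd
    rw [Linear.comp_smul, Linear.comp_smul, hd, ← Linear.smul_comp]
    refine img_factors (Subobject.factors_of_le _ (hM.2 p q a ha) ?_)
    have hP := Subobject.isPullback (ARSys.tr Z hqp) (M q)
    have hw : (M q).factorThru (π' ≫ z) (Subobject.factors_of_factors_right _ hz) ≫ (M q).arrow =
        z' ≫ ARSys.tr Z hqp := by rw [Subobject.factorThru_arrow, hz']
    rw [← hP.lift_snd _ z' hw, factors_imageSubobject_iff]
    intro W φ hφ
    rw [← Category.comp_id (hP.lift _ _ _ ≫ _), ← Linear.comp_smul, Category.assoc, Category.assoc]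
    rw [Category.assoc] at hφ
    rw [hφ, comp_zero]

/-- The strict graded object of a strict subsystem is a graded submodule. -/
lemma isGrSub_fsub (hA : ARSys.IsAdapted J Z) (hZ : ARSys.IsStrict Z) :
    ARSys.IsGrSub J Z fun q => ARSys.Fsub Z q q :=
  isGrSub_of hZ (fun _ => le_rfl) fun p q a ha T y hy => by
    refine (fsub_factors_iff Z _ _ _).2 fun k hk hkq => ?_
    have hy' := (fsub_factors_iff Z q q _).1 hy
    rw [Linear.smul_comp]
    refine (isAdapted_iff Z).1 hA k p (k + 1 - p) (by omega) a ha _ fun l hl hlq => ?_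
    rw [Category.assoc, tr_comp]
    have := hy' l (by omega) (by omega)
    rwa [Category.assoc, tr_comp] at this

variable [IsNoetherianRing A]

include ι in
/-- A strict subsystem of an adic Noetherian system is adic up to translation. -/
lemma isARAdic_of_strict_sub (hX : ARSys.IsAdicNoeth J X) (hZ : ARSys.IsStrict Z) :
    ARSys.IsARAdic J Z := by
  refine isARAdic_of_grsFiniteType (Or.inl (IsNoetherian.noetherian J)) hZ
    (isAdapted_of_mono ι (isAdapted_of_isAdic hX.1)) fun M hM hmono hlub => ?_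
  obtain ⟨i₀, hi₀⟩ := isGrSub_chain_stationary hX.1 (hX.2 0)
    (fun i q => img (ι.app (op q)) (M i q)) (fun i => isGrSub_img ι hX.1 hZ (hM i))
    (fun i j h q => img_mono _ (hmono h q))
  have hst : ∀ i, i₀ ≤ i → ∀ q, M i q ≤ M i₀ q := fun i hi q =>
    le_of_forall_factors fun T x hx => by
      have := img_factors (f := ι.app (op q)) hx
      rw [congrFun (hi₀ i hi) q] at this
      obtain ⟨T', π, _, y, hy, e⟩ := exists_of_img_factors this
      have := mono_app ι (op q)
      refine factors_of_epi π _ _ ?_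
      rwa [show π ≫ x = y from (cancel_mono (ι.app (op q))).1 (by rw [Category.assoc, e])]
  refine ⟨i₀, fun q => le_antisymm ((hlub q).1 ⟨i₀, rfl⟩) ((hlub q).2 ?_)⟩
  rintro _ ⟨i, rfl⟩
  exact (le_total i i₀).elim (fun h => hmono h q) (fun h => hst i h q)

end Sub

variable [IsNoetherianRing A]

/-- Ascending chains of strict subsystems of an adic Noetherian system are stationary. -/
lemma strict_chain_stationary (hX : ARSys.IsAdicNoeth J X) (Z : ℕ →o Subobject X)
    (hZ : ∀ k : ℕ, ARSys.IsStrict ((Subobject.underlying.obj (Z k) : ARSys.PS C))) :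
    ∃ k₀ : ℕ, ∀ k : ℕ, k₀ ≤ k → Z k = Z k₀ := by
  let M : ℕ → (q : ℕ) → Subobject (X.obj (op q)) := fun k q =>
    img ((Z k).arrow.app (op q)) (ARSys.Fsub _ q q)
  have hM : ∀ k q {T : C} (x : T ⟶ X.obj (op q)),
      (M k q).Factors x ↔ (subApp (Z k) (op q)).Factors x ∧ InF X q q x := fun k q T x => by
    constructor
    · intro hx
      obtain ⟨T', π, _, y, hy, e⟩ := exists_of_img_factors hx
      refine ⟨factors_of_epi π _ _ ?_, ?_⟩
      · rw [e, subApp, factors_imageSubobject_iff]
        intro W h hh; rw [Category.assoc, hh, comp_zero]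
      · intro l hl hlq
        rw [← cancel_epi π, ← Category.assoc, e, comp_zero]
        exact (inF_comp_iff (Z k).arrow y).1 ((fsub_factors_iff _ q q y).1 hy) l hl hlq
    · rintro ⟨hx, hxF⟩
      rw [subApp, factors_imageSubobject_iff] at hx
      obtain ⟨T', π, _, y, hy⟩ := exists_lift_of_kills _ x hx
      refine factors_of_epi π _ _ ?_
      rw [hy]
      refine img_factors ((fsub_factors_iff _ q q y).2 ((inF_comp_iff (Z k).arrow y).2 ?_))
      intro l hl hlq
      rw [← hy, Category.assoc, hxF l hl hlq, comp_zero]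
  obtain ⟨k₀, hk₀⟩ := isGrSub_chain_stationary hX.1 (hX.2 0) M
    (fun k => isGrSub_img (Z k).arrow hX.1 (hZ k)
      (isGrSub_fsub (isAdapted_of_mono (Z k).arrow (isAdapted_of_isAdic hX.1)) (hZ k)))
    (fun i j h q => le_of_forall_factors fun T x hx =>
      (hM j q x).2 ⟨Subobject.factors_of_le _ (subApp_mono (Z.monotone h) _) ((hM i q x).1 hx).1,
        ((hM i q x).1 hx).2⟩)
  refine ⟨k₀, fun k hk => le_antisymm ((sub_le_iff _ _).2 ?_) (Z.monotone hk)⟩
  rintro ⟨n⟩
  induction n with
  | zero =>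
    refine le_of_forall_factors fun T x hx => ?_
    have : (M k 0).Factors x := (hM k 0 x).2 ⟨hx, fun _ _ h => absurd h (by omega)⟩
    rw [congrFun (hk₀ k hk) 0] at this
    exact ((hM k₀ 0 x).1 this).1
  | succ n ih =>
    refine le_of_forall_factors fun T x hx => ?_
    have hn := Nat.le_succ n
    have h1 : (subApp (Z k₀) (op n)).Factors (x ≫ ARSys.tr X hn) :=
      Subobject.factors_of_le _ ih (subApp_factors_map (Z k) _ x hx)
    rw [subApp, factors_imageSubobject_iff] at h1
    obtain ⟨T', π, _, y, hy⟩ := exists_lift_of_kills _ _ h1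
    have := hZ k₀ n (n + 1) hn
    obtain ⟨T'', π', _, y', hy'⟩ :=
      surjective_up_to_refinements_of_epi (ARSys.tr (Subobject.underlying.obj (Z k₀)) hn) y
    have hy₀ : (subApp (Z k₀) (op (n + 1))).Factors (y' ≫ (Z k₀).arrow.app (op (n + 1))) := by
      rw [subApp, factors_imageSubobject_iff]
      intro W h hh; rw [Category.assoc, hh, comp_zero]
    have h0 : (π' ≫ π ≫ x - y' ≫ (Z k₀).arrow.app (op (n + 1))) ≫ ARSys.tr X hn = 0 := by
      rw [Preadditive.sub_comp, Category.assoc, Category.assoc, hy, Category.assoc,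
        ← tr_naturality, ← Category.assoc, hy', Category.assoc, sub_self]
    have hd : (M k (n + 1)).Factors (π' ≫ π ≫ x - y' ≫ (Z k₀).arrow.app (op (n + 1))) :=
      (hM k (n + 1) _).2 ⟨factors_sub
        (Subobject.factors_of_factors_right _ (Subobject.factors_of_factors_right _ hx))
        (Subobject.factors_of_le _ (subApp_mono (Z.monotone hk) _) hy₀), fun l hl hlq => by
        rw [← tr_comp X (show l ≤ n by omega) hn, ← Category.assoc, h0, zero_comp]⟩
    rw [congrFun (hk₀ k hk) (n + 1)] at hd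
    refine factors_of_epi π _ _ (factors_of_epi π' _ _ ?_)
    have := Subobject.factors_add _ _ ((hM k₀ (n + 1) _).1 hd).1 hy₀
    rwa [sub_add_cancel] at this

end Groth.EtaleDeep.AR
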